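import Cfsg.Agent.NinePQ.Order
import Cfsg.Agent.Lib.BlocksCore.AbelianShape
import Cfsg.Agent.CharDeep.Expand
import Cfsg.Agent.Blocks88.Modular

/-!
# The principal `3`-block when a Sylow `3`-subgroup of order `9` is inverted
-/

set_option autoImplicit false
set_option linter.style.haveILetI false

namespace Cfsg.Agent.NinePQ.Inv

open Subgroup Cfsg.Agent.BlocksCore BlocksDefect AbelianPrincipal AbelianShape CyclicPrincipal

variable {G : Type*} [Group G] [Fintype G] [Fact (Nat.Prime 3)]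

set_option linter.unusedSectionVars false

/-- The automiser of `P` consists of `1` and `-1`. -/
structure Inverted (P : Sylow 3 G) : Prop where
  card : Nat.card (P : Subgroup G) = 9
  auto : ∀ n ∈ normalizer ((P : Subgroup G) : Set G),
    (∀ y ∈ (P : Subgroup G), n * y * n⁻¹ = y) ∨ (∀ y ∈ (P : Subgroup G), n * y * n⁻¹ = y⁻¹)
  inverting : ∃ n ∈ normalizer ((P : Subgroup G) : Set G),
    ∀ y ∈ (P : Subgroup G), n * y * n⁻¹ = y⁻¹

variable {P : Sylow 3 G}

theorem inv_ne_self {y : G} (hy : y ∈ (P : Subgroup G)) (hy1 : y ≠ 1) : y⁻¹ ≠ y := by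
  intro h
  obtain ⟨k, hk⟩ := IsPGroup.iff_orderOf.mp P.2 ⟨y, hy⟩
  rw [Subgroup.orderOf_mk] at hk
  have h2 : orderOf y ∣ 2 := orderOf_dvd_of_pow_eq_one (by
    rw [pow_two]; nth_rw 1 [← h]; rw [inv_mul_cancel])
  rcases Nat.eq_zero_or_pos k with rfl | hk0
  · exact hy1 (orderOf_eq_one_iff.mp (by simpa using hk))
  · have h3 : 3 ∣ 2 := (hk ▸ dvd_pow_self 3 hk0.ne' : 3 ∣ orderOf y).trans h2
    norm_num at h3

theorem free (h : Inverted P) : Free P := by
  have hcomm : ∀ a b : (P : Subgroup G), a * b = b * a := by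
    intro a b
    have hc : IsMulCommutative (P : Subgroup G) :=
      IsPGroup.isMulCommutative_of_card_eq_prime_sq (p := 3) (by rw [h.card]; norm_num)
    exact hc.is_comm.comm a b
  refine ⟨⟨⟨hcomm⟩⟩, fun y hy hy1 => le_antisymm ?_ ?_⟩
  · rintro n ⟨hn1, hn2⟩
    rcases h.auto n hn2 with hn | hn
    · exact mem_centralizer_iff.mpr fun z hz => (mul_inv_eq_iff_eq_mul.mp (hn z hz)).symm
    · exfalso
      have h1 := hn y hy
      rw [mem_centralizer_singleton_iff.mp hn1, mul_inv_cancel_right] at h1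
      exact inv_ne_self hy hy1 h1.symm
  · exact le_inf (centralizer_le (Set.singleton_subset_iff.mpr hy)) (centralizer_le_normalizer _)

theorem exists_ne_one (h : Inverted P) : ∃ y ∈ (P : Subgroup G), y ≠ 1 := by
  haveI : Nontrivial (P : Subgroup G) :=
    Finite.one_lt_card_iff_nontrivial.mp (by rw [h.card]; norm_num)
  obtain ⟨y, hy⟩ := exists_ne (1 : (P : Subgroup G))
  exact ⟨y, y.2, fun h1 => hy (Subtype.ext h1)⟩

theorem relIndex_eq (h : Inverted P) :
    (centralizer ((P : Subgroup G) : Set G)).relIndex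
      (normalizer ((P : Subgroup G) : Set G)) = 2 := by
  obtain ⟨n, hn, hni⟩ := h.inverting
  obtain ⟨y, hy, hy1⟩ := exists_ne_one h
  rw [relIndex, index_eq_two_iff]
  refine ⟨⟨n, hn⟩, fun b => ?_⟩
  have hnot : ∀ m : G, (∀ z ∈ (P : Subgroup G), m * z * m⁻¹ = z⁻¹) →
      m ∉ centralizer ((P : Subgroup G) : Set G) := by
    intro m hm hc
    have h1 := hm y hy
    rw [← mem_centralizer_iff.mp hc y hy, mul_inv_cancel_right] at h1
    exact inv_ne_self hy hy1 h1.symm
  have hyes : ∀ m : G, (∀ z ∈ (P : Subgroup G), m * z * m⁻¹ = z) →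
      m ∈ centralizer ((P : Subgroup G) : Set G) :=
    fun m hm => mem_centralizer_iff.mpr fun z hz => (mul_inv_eq_iff_eq_mul.mp (hm z hz)).symm
  simp only [mem_subgroupOf, coe_mul]
  rcases h.auto b b.2 with hb | hb
  · refine Or.inr ⟨hyes _ hb, hnot _ fun z hz => ?_⟩
    rw [show (b : G) * n * z * ((b : G) * n)⁻¹ = b * (n * z * n⁻¹) * (b : G)⁻¹ by group,
      hni z hz, hb _ (inv_mem hz)]
  · refine Or.inl ⟨hyes _ fun z hz => ?_, hnot _ hb⟩
    rw [show (b : G) * n * z * ((b : G) * n)⁻¹ = b * (n * z * n⁻¹) * (b : G)⁻¹ by group,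
      hni z hz, hb _ (inv_mem hz), inv_inv]

/-- A `3`-singular element has its `3`-part conjugate into `P`. -/
theorem exists_part (P : Sylow 3 G) (g : G) :
    ∃ (z c : G), IsPPart 3 g z ∧ c * z * c⁻¹ ∈ (P : Subgroup G) ∧
      (z = 1 ↔ ¬ 3 ∣ orderOf g) := by
  obtain ⟨z, hz⟩ := exists_pPart Nat.prime_three g
  obtain ⟨w, hw, hc, ⟨k, hk⟩, hw3⟩ := hz
  obtain ⟨T, hT⟩ := (IsPGroup.of_card (n := k) (by rw [Nat.card_zpowers, hk]) :
    IsPGroup 3 (zpowers z)).exists_le_sylow
  obtain ⟨c, hcT⟩ := MulAction.exists_smul_eq G T P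
  refine ⟨z, c, ⟨w, hw, hc, ⟨k, hk⟩, hw3⟩, ?_, ?_⟩
  · rw [← hcT]; exact ⟨z, hT (mem_zpowers z), rfl⟩
  · have hord : orderOf g = orderOf z * orderOf w := by
      rw [← hw]
      refine hc.orderOf_mul_eq_mul_orderOf_of_coprime ?_
      rw [hk]
      exact Nat.Coprime.pow_left _ (Nat.prime_three.coprime_iff_not_dvd.mpr hw3)
    constructor
    · rintro rfl
      rwa [hord, orderOf_one, one_mul]
    · intro h3
      rcases Nat.eq_zero_or_pos k with rfl | hk0
      · exact orderOf_eq_one_iff.mp (by simpa using hk)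
      · exact absurd (hord ▸ Dvd.dvd.mul_right (hk ▸ dvd_pow_self 3 hk0.ne') _) h3

variable {M : Ideal AlgInt} (hM : IsPModular 3 M) [Fintype (P : Subgroup G)] (h : Inverted P)

include hM h

open scoped Classical in
/-- The indicator of a `3`-section in terms of the principal block. -/
theorem sum_members_mul {y : G} (hy : y ∈ (P : Subgroup G)) (hy1 : y ≠ 1) (w : G) :
    ∑ ψ ∈ members M G, (ψ : G → ℂ) y⁻¹ * (ψ : G → ℂ) w =
      if ∃ z, IsPPart 3 w z ∧ IsConj y z then 9 else 0 := by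
  have hf := free h
  obtain ⟨z, c, hz, hzc, hz1⟩ := exists_part P w
  have hex : (∃ z', IsPPart 3 w z' ∧ IsConj y z') ↔ IsConj (c * z * c⁻¹) y := by
    constructor
    · rintro ⟨z', hz', hyz⟩
      rw [isPPart_unique Nat.prime_three hz hz']
      exact (isConj_iff.mpr ⟨c, rfl⟩ : IsConj z' (c * z' * c⁻¹)).symm.trans hyz.symm
    · intro hh
      exact ⟨z, hz, hh.symm.trans (isConj_iff.mpr ⟨c, rfl⟩ : IsConj z (c * z * c⁻¹)).symm⟩
  simp only [hex]
  by_cases hzone : z = 1
  · rw [if_neg, ← sum_section_regular hM (inv_mem hy) (inv_ne_one.mpr hy1) (hz1.mp hzone)]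
    rw [hzone, mul_one, mul_inv_cancel, isConj_one_right]
    exact hy1
  · have hy' : (⟨c * z * c⁻¹, hzc⟩ : (P : Subgroup G)) ≠ 1 := fun h1 =>
      hzone (conj_eq_one_iff.mp (congrArg Subtype.val h1))
    have hsum := sum_mul_section hM hf ⟨c * z * c⁻¹, hzc⟩ ⟨y, hy⟩ hy'
    simp only [h.card, Nat.cast_ofNat] at hsum
    rw [← hsum]
    refine Finset.sum_congr rfl fun ψ hψ => ?_
    rw [mul_comm]
    congr 1
    rw [← irr_class ψ w c]
    exact apply_of_isPPart hM hf (mem_members.mp hψ) (isPPart_conj hz c) hzc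
      fun h1 => hzone (conj_eq_one_iff.mp h1)

/-- The shape of the principal block. -/
theorem exists_shape : ∃ (χ θ : Cfsg.IrrCharacter G) (c ε : ℤ),
    (c = 1 ∨ c = -1) ∧ (ε = 1 ∨ ε = -1) ∧ χ ≠ oneIrr G ∧ θ ≠ oneIrr G ∧
    (∀ g : G, ¬ 3 ∣ orderOf g → (ε : ℂ) * (θ : G → ℂ) g = 1 - c * (χ : G → ℂ) g) ∧
    (∀ g : G, 3 ∣ orderOf g → (χ : G → ℂ) g = -(c : ℂ)) ∧
    (9 : ℤ) ∣ (charDegree (χ : G → ℂ) : ℤ) + c ∧
    (∀ y ∈ (P : Subgroup G), y ≠ 1 → ∀ t : G, ¬ 3 ∣ orderOf t →
      9 * (Nat.card {p : G × G // IsConj t p.1 ∧ IsConj t p.2 ∧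
          ∃ z, IsPPart 3 (p.1 * p.2) z ∧ IsConj y z} : ℂ) =
        (Nat.card {x : G // IsConj t x} : ℂ) ^ 2 *
          (1 - c * ((χ : G → ℂ) t ^ 2 / (χ : G → ℂ) 1) -
            ε * ((θ : G → ℂ) t ^ 2 / (θ : G → ℂ) 1))) ∧
    (∀ y ∈ (P : Subgroup G), y ≠ 1 →
      IsIntegral ℤ (((centralizer ({y} : Set G)).index : ℂ) / (θ : G → ℂ) 1)) := by
  classical
  have := isPrime hM
  have hf := free h
  have hrel := relIndex_eq h
  have horb := card_orb_mul hf
  rw [hrel, h.card] at horb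
  have horb4 : Fintype.card (Orb P) = 4 := by omega
  haveI : Nontrivial (Orb P) := Fintype.one_lt_card_iff_nontrivial.mp (by omega)
  obtain ⟨D⟩ := exists_data hM hf (P := P)
  have hone := D.one_mem_X hM hf
  have hc1 := D.c_one hM hf
  have hsplit := D.norm_split hM hf
  rw [horb4] at hsplit
  rw [← Finset.sum_erase_add _ _ hone, hc1] at hsplit
  push_cast [hrel] at hsplit
  have hX0 : 0 ≤ ∑ χ ∈ D.X.erase (oneIrr G), D.c χ * D.c χ :=
    Finset.sum_nonneg fun _ _ => mul_self_nonneg _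
  have hd : D.d = 0 := by
    rcases D.sign with e | e <;> rw [e] at hsplit
    · have : -1 < D.d := by nlinarith
      have : D.d < 1 := by nlinarith
      omega
    · have : -1 < D.d := by nlinarith
      have : D.d < 1 := by nlinarith
      omega
  rw [hd] at hsplit
  have hX : ∑ χ ∈ D.X.erase (oneIrr G), D.c χ * D.c χ = 1 := by linarith
  have hP1 : Nat.card P ≠ 1 := by rw [h.card]; norm_num
  have hone' : ∀ χ ∈ D.X.erase (oneIrr G), 1 ≤ D.c χ * D.c χ := fun χ hχ => by
    have hne := D.c_ne_zero hM hf hP1 (Finset.mem_of_mem_erase hχ)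
    have := mul_self_pos.mpr hne
    omega
  obtain ⟨χ, hχ⟩ := Finset.card_eq_one.mp (show (D.X.erase (oneIrr G)).card = 1 by
    have hle := Finset.card_nsmul_le_sum (D.X.erase (oneIrr G)) _ 1 hone'
    rw [hX, nsmul_eq_mul, mul_one] at hle
    have hne : (D.X.erase (oneIrr G)).card ≠ 0 := fun h0 => by
      rw [Finset.card_eq_zero.mp h0, Finset.sum_empty] at hX
      exact zero_ne_one hX
    omega)
  rw [hχ, Finset.sum_singleton] at hX
  have hc : D.c χ = 1 ∨ D.c χ = -1 := mul_self_eq_one_iff.mp hX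
  have hχmem : χ ∈ D.X.erase (oneIrr G) := hχ ▸ Finset.mem_singleton_self χ
  obtain ⟨hχ1, hχX⟩ := Finset.mem_erase.mp hχmem
  obtain ⟨o₀⟩ : Nonempty (Orb P) := inferInstance
  set θ := D.f o₀ with hθdef
  have hsumX : ∀ F : Cfsg.IrrCharacter G → ℂ, ∑ ψ ∈ D.X, F ψ = F (oneIrr G) + F χ := fun F => by
    rw [← Finset.sum_erase_add _ _ hone, hχ, Finset.sum_singleton, add_comm]
  have hreg : ∀ g : G, ¬ 3 ∣ orderOf g → (D.ε : ℂ) * (θ : G → ℂ) g = 1 - D.c χ * (χ : G → ℂ) g := by
    intro g hg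
    have h1 := D.regular_relation hM hf o₀ hg
    rw [hd, hsumX, hc1, show ((oneIrr G : Cfsg.IrrCharacter G) : G → ℂ) g = 1 from rfl] at h1
    push_cast at h1
    linear_combination h1
  have hχval : ∀ g : G, 3 ∣ orderOf g → (χ : G → ℂ) g = -(D.c χ : ℂ) := by
    intro g hg
    obtain ⟨z, c, hz, hzc, hz1⟩ := exists_part P g
    rw [← irr_class χ g c, D.apply_X hM hf hχX (isPPart_conj hz c) hzc
      (fun h1 => hz1.mp (conj_eq_one_iff.mp h1) hg), Int.cast_neg]
  have hsum : ∀ F : Cfsg.IrrCharacter G → ℂ, ∑ ψ ∈ members M G, F ψ =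
      F (oneIrr G) + F χ + ∑ o, F (D.f o) := by
    intro F
    have hm : members M G = D.X ∪ Finset.univ.image D.f := by
      rw [Data.X, Finset.sdiff_union_of_subset]
      intro φ hφ
      obtain ⟨o, -, rfl⟩ := Finset.mem_image.mp hφ
      exact D.mem o
    rw [hm, Finset.sum_union, hsumX, Finset.sum_image fun a _ b _ e => D.inj e]
    rw [Data.X]
    exact Finset.sdiff_disjoint
  have hdeg : ∀ o, (D.f o : G → ℂ) 1 = (θ : G → ℂ) 1 := fun o =>
    D.eq_regular hM hf o o₀ (by rw [orderOf_one]; norm_num)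
  have hregt : ∀ (o) (t : G), ¬ 3 ∣ orderOf t → (D.f o : G → ℂ) t = (θ : G → ℂ) t :=
    fun o t ht => D.eq_regular hM hf o o₀ ht
  have horbsum : ∀ y ∈ (P : Subgroup G), y ≠ 1 →
      ∑ o, (D.f o : G → ℂ) y = -(D.ε : ℂ) := by
    intro y hy hy1
    have h1 := sum_section_regular hM hy hy1 (g := (1 : G)) (by rw [orderOf_one]; norm_num)
    rw [hsum, show ((oneIrr G : Cfsg.IrrCharacter G) : G → ℂ) y = 1 from rfl,
      show ((oneIrr G : Cfsg.IrrCharacter G) : G → ℂ) 1 = 1 from rfl,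
      Finset.sum_congr rfl (g := fun o => (D.f o : G → ℂ) y * (θ : G → ℂ) 1)
        (fun o _ => by rw [hdeg]), ← Finset.sum_mul,
      D.apply_X hM hf hχX (isPPart_self hy) hy hy1] at h1
    have h2 := hreg 1 (by rw [orderOf_one]; norm_num)
    push_cast at h1
    refine mul_right_cancel₀ (CharCore.irr_apply_one_ne_zero θ) ?_
    linear_combination h1 + h2
  refine ⟨χ, θ, D.c χ, D.ε, hc, D.sign, hχ1, D.one_ne o₀, hreg, hχval, ?_, ?_, ?_⟩
  · -- congruence
    obtain ⟨n, hn⟩ := CharCore.IsCharacter.exists_classInner_eq_natCast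
      (CharCore.isCharacter_restrict (CharCore.irr_isCharacter χ) (P : Subgroup G))
      (CharCore.isCharacter_one (G := (P : Subgroup G)))
    rw [CharCore.classInner_def, h.card, ← Finset.add_sum_erase _ _
      (Finset.mem_univ (1 : (P : Subgroup G)))] at hn
    rw [Finset.sum_congr rfl (g := fun _ => (-D.c χ : ℂ)) (fun y hy => by
      simp only [Pi.one_apply, map_one, mul_one]
      rw [D.apply_X hM hf hχX (isPPart_self y.2) y.2
        fun h1 => Finset.ne_of_mem_erase hy (Subtype.ext h1), Int.cast_neg]), Finset.sum_const,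
      Finset.card_erase_of_mem (Finset.mem_univ _), Finset.card_univ, ← Nat.card_eq_fintype_card,
      h.card] at hn
    simp only [Pi.one_apply, map_one, mul_one, OneMemClass.coe_one, irr_one_eq, nsmul_eq_mul] at hn
    refine ⟨(n : ℤ) + D.c χ, Int.cast_injective (α := ℂ) ?_⟩
    push_cast at hn ⊢
    linear_combination 9 * hn
  · -- pairs
    intro y hy hy1 t ht
    have h1 : ∑ ψ ∈ members M G, (ψ : G → ℂ) y⁻¹ *
        ∑ g, ∑ k, classInd t g * classInd t k * (ψ : G → ℂ) (g * k) =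
        ∑ g, ∑ k, classInd t g * classInd t k *
          (if ∃ z, IsPPart 3 (g * k) z ∧ IsConj y z then (9 : ℂ) else 0) := by
      simp only [Finset.mul_sum]
      rw [Finset.sum_comm]
      refine Finset.sum_congr rfl fun g _ => ?_
      rw [Finset.sum_comm]
      refine Finset.sum_congr rfl fun k _ => ?_
      rw [← sum_members_mul hM h hy hy1 (g * k), Finset.mul_sum]
      exact Finset.sum_congr rfl fun ψ _ => by ring
    have h2 : ∑ g, ∑ k, classInd t g * classInd t k *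
          (if ∃ z, IsPPart 3 (g * k) z ∧ IsConj y z then (9 : ℂ) else 0) =
        9 * (Nat.card {p : G × G // IsConj t p.1 ∧ IsConj t p.2 ∧
          ∃ z, IsPPart 3 (p.1 * p.2) z ∧ IsConj y z} : ℂ) := by
      rw [← Finset.sum_product', Nat.card_eq_fintype_card, Fintype.card_subtype, Finset.card_filter,
        Nat.cast_sum, Finset.mul_sum]
      refine Finset.sum_congr rfl fun p _ => ?_
      by_cases a : IsConj t p.1
      swap
      · simp [classInd_apply_of_not_isConj a, a, -isConj_iff]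
      by_cases b : IsConj t p.2
      swap
      · simp [classInd_apply_of_not_isConj b, b, -isConj_iff]
      rw [classInd_apply_of_isConj a, classInd_apply_of_isConj b]
      by_cases e : ∃ z, IsPPart 3 (p.1 * p.2) z ∧ IsConj y z
      · rw [if_pos e, if_pos ⟨a, b, e⟩]; simp
      · rw [if_neg e, if_neg fun h' => e h'.2.2]; simp
    rw [← h2, ← h1, hsum]
    simp only [CharDeep.sum_pairs_char, hdeg, fun o => hregt o t ht]
    rw [← Finset.sum_mul, horbsum _ (inv_mem hy) (inv_ne_one.mpr hy1),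
      D.apply_X hM hf hχX (isPPart_self (inv_mem hy)) (inv_mem hy) (inv_ne_one.mpr hy1),
      show ((oneIrr G : Cfsg.IrrCharacter G) : G → ℂ) y⁻¹ = 1 from rfl,
      show ((oneIrr G : Cfsg.IrrCharacter G) : G → ℂ) t = 1 from rfl,
      show ((oneIrr G : Cfsg.IrrCharacter G) : G → ℂ) 1 = 1 from rfl]
    push_cast
    ring
  · -- integrality
    intro y hy hy1
    have h1 : IsIntegral ℤ (∑ o, ((centralizer ({y} : Set G)).index : ℂ) *
        (D.f o : G → ℂ) y / (θ : G → ℂ) 1) := by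
      refine IsIntegral.sum _ fun o _ => ?_
      obtain ⟨n, ρ, hρ, hfe⟩ := (D.f o).2
      haveI := hρ
      have h3 := CharCore.isIntegral_index_mul_character_div ρ y
      rw [← hdeg o, ← hfe, Representation.char_one]
      exact h3
    rw [← Finset.sum_div, ← Finset.mul_sum, horbsum y hy hy1] at h1
    have h2 := h1.mul (isIntegral_algebraMap (R := ℤ) (A := ℂ) (x := -D.ε))
    have he : (D.ε : ℂ) * D.ε = 1 := by rcases D.sign with e | e <;> rw [e] <;> norm_num
    rw [eq_intCast, Int.cast_neg] at h2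
    have e2 : ((centralizer ({y} : Set G)).index : ℂ) / (θ : G → ℂ) 1 =
        ((centralizer ({y} : Set G)).index : ℂ) * -(D.ε : ℂ) / (θ : G → ℂ) 1 * -(D.ε : ℂ) := by
      linear_combination -(((centralizer ({y} : Set G)).index : ℂ) / (θ : G → ℂ) 1) * he
    rw [e2]
    exact h2

end Cfsg.Agent.NinePQ.Inv
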