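import Cfsg.Agent.NinePQ.Inv.Local
import Cfsg.Agent.S0999
import Cfsg.Agent.Lib.Dickson.Tori

/-!
# A prime `q = 2 ^ i - 1` with `9 ∣ q - 1`: the fixed points on the Sylow `q`-subgroups
-/

set_option autoImplicit false
set_option linter.style.haveILetI false
set_option linter.unusedSectionVars false

namespace Cfsg.Agent.NinePQ.Inv

open Subgroup
open scoped Pointwise

variable {G : Type*} [Group G] [Fintype G]

/-- If the Sylow `q`-subgroups have trivial pairwise intersection, each fixed point of `x` other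
than the base accounts for `q` subgroups. -/
theorem fix_count {q : ℕ} [hq : Fact q.Prime] (S : Sylow q G)
    (hS : Nat.card (S : Subgroup G) = q) {x : G} (hxS : x • S = S)
    (hfree : ∀ u ∈ (S : Subgroup G), Commute u x → u = 1) :
    (Nat.card {T : Sylow q G // x • T = T} - 1) * q + 1 ≤ Nat.card (Sylow q G) := by
  classical
  haveI : Finite (Sylow q G) := inferInstance
  have hxN : ∀ u ∈ (S : Subgroup G), x * u * x⁻¹ ∈ (S : Subgroup G) := by
    intro u hu
    have : x * u * x⁻¹ ∈ ((x • S : Sylow q G) : Subgroup G) := ⟨u, hu, rfl⟩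
    rwa [hxS] at this
  have hone : ∀ (u : G) (T : Sylow q G), u ∈ (S : Subgroup G) → u ≠ 1 → u • T = T → T = S := by
    intro u T hu hu1 hT
    have hz : zpowers u = (S : Subgroup G) := by
      refine eq_of_le_of_card_ge (zpowers_le.mpr hu) ?_
      rw [hS, Nat.card_zpowers]
      have hd : orderOf u ∣ q := by
        have := orderOf_dvd_natCard (⟨u, hu⟩ : (S : Subgroup G))
        rwa [hS, Subgroup.orderOf_mk] at this
      rcases (Nat.dvd_prime hq.out).mp hd with h | h
      · exact absurd (orderOf_eq_one_iff.mp h) hu1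
      · exact h.ge
    have hle : (S : Subgroup G) ≤ normalizer ((T : Subgroup G) : Set G) :=
      hz ▸ zpowers_le.mpr (Sylow.smul_eq_iff_mem_normalizer.mp hT)
    have hT' : (S : Subgroup G) ≤ (T : Subgroup G) := by
      have hp : IsPGroup q ((S : Subgroup G) ⊔ (T : Subgroup G) : Subgroup G) :=
        IsPGroup.to_sup_of_normal_right' S.2 T.2 hle
      exact le_sup_left.trans (T.3 hp le_sup_right).le
    exact (Sylow.ext (S.3 T.2 hT')).symm ▸ rfl
  let α := {T : {T : Sylow q G // x • T = T} // T.1 ≠ S} × (S : Subgroup G)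
  let φ : α → {T : Sylow q G // T ≠ S} := fun p => ⟨(p.2 : G) • p.1.1.1, fun h => p.1.2 (by
    have h' := congrArg (fun T => (p.2 : G)⁻¹ • T) h
    simp only [inv_smul_smul] at h'
    rw [h']
    exact Sylow.smul_eq_iff_mem_normalizer.mpr (inv_mem (le_normalizer p.2.2)))⟩
  have hinj : Function.Injective φ := by
    rintro ⟨⟨⟨T, hT⟩, hTne⟩, u⟩ ⟨⟨⟨T', hT'⟩, hT'ne⟩, u'⟩ h
    have h1 : (u : G) • T = (u' : G) • T' := congrArg Subtype.val h
    set w := ((u' : G))⁻¹ * (u : G) with hw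
    have hwS : w ∈ (S : Subgroup G) := mul_mem (inv_mem u'.2) u.2
    have hwT : w • T = T' := by rw [hw, mul_smul, h1, inv_smul_smul]
    have h2 : (x * w * x⁻¹) • T = T' := by
      rw [mul_smul, mul_smul, show x⁻¹ • T = T by
        conv_lhs => rw [← hT]
        rw [inv_smul_smul], hwT, hT']
    have h3 : (w⁻¹ * (x * w * x⁻¹)) • T = T := by rw [mul_smul, h2, ← hwT, inv_smul_smul]
    have h4 : w⁻¹ * (x * w * x⁻¹) = 1 := by
      by_contra hne
      exact hTne (hone _ T (mul_mem (inv_mem hwS) (hxN _ hwS)) hne h3)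
    have h5 : w = 1 := hfree w hwS (by
      rw [inv_mul_eq_one] at h4
      exact (eq_mul_inv_iff_mul_eq.mp h4))
    have hu : u = u' := Subtype.ext (by rw [hw, inv_mul_eq_one] at h5; exact h5.symm)
    subst hu
    rw [h5, one_smul] at hwT
    subst hwT
    rfl
  have h := Nat.card_le_card_of_injective φ hinj
  rw [Nat.card_prod, hS] at h
  have e1 : Nat.card {T : Sylow q G // T ≠ S} + 1 = Nat.card (Sylow q G) := by
    haveI := Fintype.ofFinite (Sylow q G)
    rw [Nat.card_eq_fintype_card, Nat.card_eq_fintype_card, Fintype.card_subtype_compl,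
      Fintype.card_subtype_eq]
    have : 0 < Fintype.card (Sylow q G) := Fintype.card_pos
    omega
  have e2 : Nat.card {T : {T : Sylow q G // x • T = T} // T.1 ≠ S} =
      Nat.card {T : Sylow q G // x • T = T} - 1 := by
    haveI := Fintype.ofFinite (Sylow q G)
    rw [Nat.card_congr (Equiv.subtypeEquivRight
      (q := fun T : {T : Sylow q G // x • T = T} => ¬ T = ⟨S, hxS⟩)
      fun T => by simp [Subtype.ext_iff])]
    rw [Nat.card_eq_fintype_card, Nat.card_eq_fintype_card, Fintype.card_subtype_compl,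
      Fintype.card_subtype_eq]
  rw [e2] at h
  omega

theorem card_psl_ne {q a i : ℕ} (hq : 19 ≤ q) (hi : q + 1 = 2 ^ i) (ha : a = i ∨ a = i + 1)
    (F : Type) [Field F] [Fintype F] (hF : Fintype.card F = q) :
    Nat.card (Matrix.ProjectiveSpecialLinearGroup (Fin 2) F) ≠ 9 * 2 ^ a * q := by
  intro h
  have h1 := Dickson.card_psl_eq (F := F)
  rw [hF, show Nat.card (Dickson.PSL2 F) = Nat.card (Matrix.ProjectiveSpecialLinearGroup (Fin 2) F)
    from rfl, h] at h1
  have h2i : 2 ∣ 2 ^ i := dvd_pow_self 2 (by rintro rfl; simp at hi; omega)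
  have hg : Nat.gcd 2 (q - 1) = 2 := Nat.gcd_eq_left (by omega)
  rw [hg] at h1
  have hq1 : q * q - 1 = (q - 1) * 2 ^ i := by
    rw [← hi, mul_comm (q - 1), ← Nat.sq_sub_sq, one_pow, sq]
  have key : 18 * 2 ^ a = (q - 1) * 2 ^ i := by
    have e : 2 * (9 * 2 ^ a * q) = q * ((q - 1) * 2 ^ i) := by
      rw [h1, ← hi]; ring
    refine Nat.eq_of_mul_eq_mul_left (show 0 < q by omega) ?_
    rw [← e]; ring
  rcases ha with rfl | rfl
  · have := Nat.eq_of_mul_eq_mul_right (by positivity) key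
    have h5 : 2 ^ a = 20 := by omega
    rcases Nat.lt_or_ge a 5 with h6 | h6
    · have : 2 ^ a ≤ 2 ^ 4 := Nat.pow_le_pow_right (by norm_num) (by omega)
      omega
    · have : 2 ^ 5 ≤ 2 ^ a := Nat.pow_le_pow_right (by norm_num) h6
      omega
  · rw [pow_succ, show 18 * (2 ^ i * 2) = 36 * 2 ^ i by ring] at key
    have := Nat.eq_of_mul_eq_mul_right (by positivity) key
    have h5 : 2 ^ i = 38 := by omega
    rcases Nat.lt_or_ge i 6 with h6 | h6
    · have : 2 ^ i ≤ 2 ^ 5 := Nat.pow_le_pow_right (by norm_num) (by omega)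
      omega
    · have : 2 ^ 6 ≤ 2 ^ i := Nat.pow_le_pow_right (by norm_num) h6
      omega

variable [Fact (Nat.Prime 3)]

theorem false_of_nine [IsSimpleGroup G] (hG : ¬ IsMulCommutative G) {q a i : ℕ} (hq : q.Prime)
    (hq2 : q ≠ 2) (hq3 : q ≠ 3) (hcard : Nat.card G = 9 * 2 ^ a * q)
    (hinv : ∀ P : Sylow 3 G, Inverted P) (h9q : 9 ∣ q - 1) (hi : q + 1 = 2 ^ i) (hia : i ≤ a)
    {S : Sylow q G} {x : G} (hxS : x ∈ normalizer ((S : Subgroup G) : Set G)) (hx : orderOf x = 9)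
    (hm : Nat.card (centralizer ({x} : Set G)) = 9 * 2 ^ (a - i)) : False := by
  classical
  haveI : Fact q.Prime := ⟨hq⟩
  have hq19 : 19 ≤ q := by
    have h10 : q ≠ 10 := fun h => by rw [h] at hq; norm_num at hq
    have h1 : q ≠ 1 := hq.ne_one
    have h0 : q ≠ 0 := hq.ne_zero
    omega
  have hi4 : 5 ≤ i := by
    by_contra hlt
    have : 2 ^ i ≤ 2 ^ 4 := Nat.pow_le_pow_right (by norm_num) (by omega)
    omega
  have h4i : 4 ∣ 2 ^ i := (pow_dvd_pow 2 (show 2 ≤ i by omega) : 2 ^ 2 ∣ 2 ^ i)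
  obtain ⟨hS1, hS2, e, he2, he1, hN, hn⟩ := sylow_data hG hq hq2 hq3 hcard S
  obtain ⟨P, hPx⟩ := (IsPGroup.of_card (n := 2) (by rw [Nat.card_zpowers, hx]; norm_num) :
    IsPGroup 3 (zpowers x)).exists_le_sylow
  have hP := hinv P
  have hPeq : zpowers x = (P : Subgroup G) :=
    eq_of_le_of_card_ge hPx (by rw [hP.card, Nat.card_zpowers, hx])
  obtain ⟨n0, hn0, hn0i⟩ := hP.inverting
  set H := normalizer ((P : Subgroup G) : Set G)
  have hCH : centralizer ({x} : Set G) ≤ H := by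
    intro c hc
    refine centralizer_le_normalizer _ (mem_centralizer_iff.mpr ?_)
    rw [← hPeq]
    rintro z ⟨k, rfl⟩
    exact ((Commute.symm (mem_centralizer_singleton_iff.mp hc)).zpow_left k).eq
  have hx1 : x ≠ 1 := fun h => by rw [h, orderOf_one] at hx; norm_num at hx
  have hHcard : 2 * (9 * 2 ^ (a - i)) ≤ Nat.card H := by
    rw [← hm]
    obtain ⟨k, hk⟩ := card_dvd_of_le hCH
    rcases Nat.lt_or_ge k 2 with hk2 | hk2
    · exfalso
      have hk1 : k = 1 := by
        rcases Nat.eq_zero_or_pos k with rfl | h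
        · simp at hk
        · omega
      rw [hk1, mul_one] at hk
      have heq := eq_of_le_of_card_ge hCH hk.le
      have hn0C : n0 ∈ centralizer ({x} : Set G) := heq ▸ hn0
      have h1 := hn0i x (hPeq ▸ mem_zpowers x)
      rw [mem_centralizer_singleton_iff.mp hn0C, mul_inv_cancel_right] at h1
      exact inv_ne_self (hPeq ▸ mem_zpowers x : x ∈ (P : Subgroup G)) hx1 h1.symm
    · rw [hk, mul_comm _ k]
      exact Nat.mul_le_mul_right _ hk2
  -- the stabiliser
  set N := normalizer ((S : Subgroup G) : Set G)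
  have hLS : ∀ u ∈ (S : Subgroup G), u ∈ H → u = 1 := by
    intro u hu huH
    have h1 : u * x * u⁻¹ * x⁻¹ ∈ (S : Subgroup G) := by
      rw [show u * x * u⁻¹ * x⁻¹ = u * (x * u⁻¹ * x⁻¹) by group]
      exact mul_mem hu ((mem_normalizer_iff.mp hxS _).mp (inv_mem hu))
    have h2 : u * x * u⁻¹ * x⁻¹ ∈ (P : Subgroup G) :=
      mul_mem ((mem_normalizer_iff.mp huH _).mp (hPeq ▸ mem_zpowers x))
        (inv_mem (hPeq ▸ mem_zpowers x))
    have h3 : u * x * u⁻¹ * x⁻¹ = 1 := by
      have d1 := orderOf_dvd_natCard (⟨_, h1⟩ : (S : Subgroup G))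
      have d2 := orderOf_dvd_natCard (⟨_, h2⟩ : (P : Subgroup G))
      rw [Subgroup.orderOf_mk, hS1] at d1
      rw [Subgroup.orderOf_mk, hP.card] at d2
      refine orderOf_eq_one_iff.mp (Nat.eq_one_of_dvd_coprimes ?_ d1 d2)
      rw [show (9 : ℕ) = 3 ^ 2 by norm_num]
      exact Nat.Coprime.pow_right _ ((Nat.coprime_primes hq Nat.prime_three).mpr hq3)
    by_contra hu1
    have hord : orderOf u = q := by
      have d1 := orderOf_dvd_natCard (⟨u, hu⟩ : (S : Subgroup G))
      rw [Subgroup.orderOf_mk, hS1] at d1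
      exact ((Nat.dvd_prime hq).mp d1).resolve_left fun h => hu1 (orderOf_eq_one_iff.mp h)
    have hcomm : Commute u x := mul_inv_eq_iff_eq_mul.mp (mul_inv_eq_one.mp h3)
    have hd := orderOf_dvd_of_mem_zpowers
      (mem_zpowers_of_commute hG hq hq2 hq3 hcard hord hcomm)
    rw [hx, hord] at hd
    rcases (Nat.dvd_prime hq).mp hd with h | h <;> omega
  have hfree : ∀ u ∈ (S : Subgroup G), Commute u x → u = 1 := fun u hu hc =>
    hLS u hu (hCH (mem_centralizer_singleton_iff.mpr hc.eq))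
  have hL : Nat.card (H ⊓ N : Subgroup G) * q ≤ e * q := by
    rw [← hN, ← hS1, ← Nat.card_prod]
    refine Nat.card_le_card_of_injective
      (fun p : (H ⊓ N : Subgroup G) × (S : Subgroup G) =>
        (⟨(p.1 : G) * p.2, mul_mem p.1.2.2 (le_normalizer p.2.2)⟩ : N)) ?_
    rintro ⟨l, s⟩ ⟨l', s'⟩ h
    have h1 : (l : G) * s = l' * s' := congrArg Subtype.val h
    have h2 : ((l' : G))⁻¹ * l = (s' : G) * ((s : G))⁻¹ := by
      rw [inv_mul_eq_iff_eq_mul, ← mul_assoc, ← h1, mul_inv_cancel_right]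
    have h3 := hLS _ (h2 ▸ mul_mem s'.2 (inv_mem s.2)) (mul_mem (inv_mem l'.2.1) l.2.1)
    have hl : l = l' := Subtype.ext (inv_mul_eq_one.mp h3).symm
    subst hl
    simp only [mul_left_cancel_iff] at h1
    exact Prod.ext rfl (Subtype.ext h1)
  have hLe : Nat.card (H ⊓ N : Subgroup G) ≤ e := Nat.le_of_mul_le_mul_right hL hq.pos
  have hHfix : ∀ c ∈ H, x • (c • S) = c • S := by
    intro c hc
    have h1 : c⁻¹ * x * c ∈ zpowers x := by
      rw [hPeq]
      have := (mem_normalizer_iff.mp (inv_mem hc) x).mp (hPeq ▸ mem_zpowers x)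
      simpa using this
    obtain ⟨k, hk⟩ := h1
    simp only at hk
    have h2 : (x ^ k) • S = S :=
      Sylow.smul_eq_iff_mem_normalizer.mpr (zpow_mem hxS k)
    calc x • (c • S) = c • ((c⁻¹ * x * c) • S) := by simp only [← mul_smul]; group
      _ = c • S := by rw [← hk, h2]
  have horb : Nat.card H ≤ Nat.card {T : Sylow q G // x • T = T} * e := by
    have h1 := ((H ⊓ N).subgroupOf H).index_mul_card
    rw [Nat.card_congr (subgroupOfEquivOfLe (inf_le_left : H ⊓ N ≤ H)).toEquiv] at h1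
    rw [← h1]
    refine Nat.mul_le_mul ?_ hLe
    refine Nat.card_le_card_of_injective (α := H ⧸ (H ⊓ N).subgroupOf H)
      (fun c => (⟨(c.out : G) • S, hHfix _ c.out.2⟩ : {T : Sylow q G // x • T = T})) ?_
    intro c c' h
    have h2 : (c.out : G) • S = (c'.out : G) • S := congrArg Subtype.val h
    rw [← c.out_eq, ← c'.out_eq]
    refine QuotientGroup.eq.mpr ?_
    rw [mem_subgroupOf]
    refine ⟨(c.out⁻¹ * c'.out).2, Sylow.smul_eq_iff_mem_normalizer.mp ?_⟩
    simp only [coe_mul, InvMemClass.coe_inv, mul_smul, ← h2, inv_smul_smul]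
  have hcount := fix_count S hS1 (Sylow.smul_eq_iff_mem_normalizer.mpr hxS) hfree
  -- arithmetic
  have h9e : 9 ∣ e := by
    have h1 : 9 ∣ e * q := hN ▸ hx ▸ (orderOf_dvd_natCard (⟨x, hxS⟩ : N) |> fun h => by
      rwa [Subgroup.orderOf_mk] at h)
    refine Nat.Coprime.dvd_of_dvd_mul_right ?_ h1
    rw [show (9 : ℕ) = 3 ^ 2 by norm_num]
    exact Nat.Coprime.pow_left _ ((Nat.coprime_primes Nat.prime_three hq).mpr (Ne.symm hq3))
  obtain ⟨e0, rfl⟩ := h9e
  have hn' : e0 * Nat.card (Sylow q G) = 2 ^ a := by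
    refine Nat.eq_of_mul_eq_mul_left (show 0 < 9 by norm_num) ?_
    rw [← mul_assoc, hn]; ring
  obtain ⟨s, -, hs⟩ := (Nat.dvd_prime_pow Nat.prime_two).mp (Dvd.intro _ hn' : e0 ∣ 2 ^ a)
  subst hs
  have hs1 : s ≤ 1 := by
    by_contra hlt
    have : 4 ∣ q - 1 :=
      ((pow_dvd_pow 2 (show 2 ≤ s by omega) : 2 ^ 2 ∣ 2 ^ s).trans (dvd_mul_left _ 9)).trans he1
    omega
  have ha : a ≤ i + s := by
    by_contra hlt
    obtain ⟨M, hM, rfl⟩ : ∃ M, 1 ≤ M ∧ a = i + s + M := ⟨a - i - s, by omega, by omega⟩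
    rw [show i + s + M - i = s + M by omega] at hHcard
    have hn'' : Nat.card (Sylow q G) = 2 ^ i * 2 ^ M :=
      Nat.eq_of_mul_eq_mul_left (show 0 < 2 ^ s by positivity) (hn'.trans (by rw [pow_add, pow_add]; ring))
    have hfix : 2 * 2 ^ M ≤ Nat.card {T : Sylow q G // x • T = T} := by
      refine Nat.le_of_mul_le_mul_right (c := 9 * 2 ^ s) ?_ (by positivity)
      refine le_trans (le_of_eq ?_) (hHcard.trans horb)
      rw [pow_add]; ring
    obtain ⟨F, hF⟩ : ∃ F, F = 2 ^ M := ⟨_, rfl⟩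
    have hF2 : 2 ≤ F := hF ▸ Nat.le_self_pow (by omega) 2
    obtain ⟨f, hf⟩ : ∃ f, Nat.card {T : Sylow q G // x • T = T} = f + 1 :=
      ⟨_, (Nat.succ_pred_eq_of_pos (by omega)).symm⟩
    rw [← hF] at hfix hn''
    rw [hf, Nat.add_sub_cancel, hn'', ← hi] at hcount
    rw [hf] at hfix
    nlinarith
  -- the order
  have ha1 : a = i ∨ a = i + 1 := by omega
  have hbig : Nat.card G < q ^ 3 := by
    rw [hcard]
    have h1 : 2 ^ a ≤ 2 * 2 ^ i := by
      rw [← pow_succ']
      exact Nat.pow_le_pow_right (by norm_num) (by omega)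
    rw [← hi] at h1
    calc 9 * 2 ^ a * q ≤ 9 * (2 * (q + 1)) * q := by gcongr
      _ < q * q * q := Nat.mul_lt_mul_of_pos_right (by nlinarith) hq.pos
      _ = q ^ 3 := by ring
  rcases S0999.result (G := G) (fun hc => hG hc.isMulCommutative) q hq
      (hcard ▸ dvd_mul_left _ _) hbig with
    ⟨F, i1, i2, hF, -, ⟨φ⟩⟩ | ⟨m, F, i1, i2, hF, hqm, -, -⟩
  · exact card_psl_ne hq19 hi ha1 F hF (by rw [← Nat.card_congr φ.toEquiv, hcard])
  · rcases Nat.lt_or_ge m 2 with hm2 | hm2
    · have : 2 ^ m ≤ 2 ^ 1 := Nat.pow_le_pow_right (by norm_num) (by omega)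
      omega
    · obtain ⟨w, hw⟩ := pow_dvd_pow 2 hm2
      omega

end Cfsg.Agent.NinePQ.Inv
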