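import Cfsg.Agent.NinePQ.Inv.Kill
import Cfsg.Agent.NinePQ.Inv.Large
import Cfsg.Agent.Lib.Involution.Counting
import Cfsg.Agent.S1011
import Cfsg.Agent.S1020

/-!
# Groups of order `9 * 2 ^ a * q ^ b` with an inverted Sylow `3`-subgroup
-/

set_option autoImplicit false
set_option linter.style.haveILetI false
set_option linter.unusedSectionVars false

namespace Cfsg.Agent.NinePQ.Inv

open Subgroup Cfsg.Agent.BlocksCore BlocksDefect AbelianPrincipal AbelianShape CyclicPrincipal

variable {G : Type*} [Group G] [Fintype G] [Fact (Nat.Prime 3)]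

/-- The numerical invariants. -/
theorem core [IsSimpleGroup G] (hG : ¬ IsMulCommutative G) {q a b : ℕ} (hq : q.Prime)
    (hq2 : q ≠ 2) (hq3 : q ≠ 3) (hcard : Nat.card G = 9 * 2 ^ a * q ^ b) {P : Sylow 3 G}
    (h : Inverted P) :
    b = 1 ∧ ∃ (i : ℕ) (χ θ : Cfsg.IrrCharacter G),
      1 ≤ i ∧ i ≤ a ∧ (q = 2 ^ i + 1 ∨ q + 1 = 2 ^ i) ∧ χ ≠ oneIrr G ∧
      (∀ y ∈ (P : Subgroup G), y ≠ 1 →
        Nat.card (centralizer ({y} : Set G)) = 9 * 2 ^ (a - i)) ∧
      (i ≤ 4 → ((q = 7 ∧ i = 3 ∧ charDegree (χ : G → ℂ) = 8) ∨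
          (q = 17 ∧ i = 4 ∧ charDegree (χ : G → ℂ) = 17)) ∧
        (∀ g : G, ¬ 3 ∣ orderOf g → (θ : G → ℂ) g = (χ : G → ℂ) g - 1) ∧
        (∀ g : G, 3 ∣ orderOf g → (χ : G → ℂ) g = -1) ∧
        (∀ y ∈ (P : Subgroup G), y ≠ 1 → ∀ t : G, ¬ 3 ∣ orderOf t →
          9 * (Nat.card {p : G × G // IsConj t p.1 ∧ IsConj t p.2 ∧
              ∃ z, IsPPart 3 (p.1 * p.2) z ∧ IsConj y z} : ℂ) =
            (Nat.card {x : G // IsConj t x} : ℂ) ^ 2 *
              (1 - (χ : G → ℂ) t ^ 2 / (χ : G → ℂ) 1 +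
                (θ : G → ℂ) t ^ 2 / (θ : G → ℂ) 1))) := by
  classical
  haveI : Fintype (P : Subgroup G) := Fintype.ofFinite _
  obtain ⟨M, hM⟩ := Blocks88.exists_isPModular Nat.prime_three
  obtain ⟨χ, θ, c, ε, hc, hε, hχ1, hθ1, hreg, hval, hmod, hpairs, hint⟩ := exists_shape hM h
  set A := charDegree (χ : G → ℂ) with hA
  set B := charDegree (θ : G → ℂ) with hB
  have hA1 := one_lt_deg hG hχ1
  have hB1 := one_lt_deg hG hθ1
  have hεB : ε * (B : ℤ) = 1 - c * (A : ℤ) := by
    apply Int.cast_injective (α := ℂ)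
    push_cast
    rw [hA, hB, ← irr_one_eq, ← irr_one_eq]
    exact hreg 1 (by rw [orderOf_one]; norm_num)
  have hεc : ε = -c := by
    rcases hc with rfl | rfl <;> rcases hε with rfl | rfl <;> omega
  subst hεc
  have hadj : A + 1 = B ∨ B + 1 = A := by rcases hc with rfl | rfl <;> omega
  have hA3 : ¬ 3 ∣ A := by rcases hc with rfl | rfl <;> omega
  have hB3 : ¬ 3 ∣ B := by rcases hc with rfl | rfl <;> omega
  have hdA : A ∣ 2 ^ a * q ^ b :=
    dvd_of_not_three (n := Nat.card G) (by rw [hcard]; ring) (charDegree_dvd_card χ) hA3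
  have hdB : B ∣ 2 ^ a * q ^ b :=
    dvd_of_not_three (n := Nat.card G) (by rw [hcard]; ring) (charDegree_dvd_card θ) hB3
  obtain ⟨i, hi1, hcases, hq'⟩ := exists_split hq hq2 hq3 hdA hdB hA1 hB1 hadj
  have hb : b = 1 := by
    rcases hcases with ⟨-, e⟩ | ⟨e, -⟩
    · exact exponent_one hG hq hq2 hq3 hcard (χ := θ) e
    · exact exponent_one hG hq hq2 hq3 hcard (χ := χ) e
  subst hb
  rw [pow_one] at hcard hdA hdB
  have hia : i ≤ a := by
    have h2 : 2 ^ i ∣ 2 ^ a * q := by
      rcases hcases with ⟨e, -⟩ | ⟨-, e⟩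
      · exact e ▸ hdA
      · exact e ▸ hdB
    exact (Nat.pow_dvd_pow_iff_le_right one_lt_two).mp ((Nat.Coprime.pow_left _
      ((Nat.coprime_primes Nat.prime_two hq).mpr (Ne.symm hq2))).dvd_of_dvd_mul_right h2)
  refine ⟨rfl, i, χ, θ, hi1, hia, hq', hχ1, fun y hy hy1 => ?_, fun hi4 => ?_⟩
  · obtain ⟨m, hma, hm, hidx⟩ := card_centralizer hG hq hq2 hq3 hcard h hy hy1
    suffices hmeq : m = a - i by rw [hm, hmeq]
    have hup : i + m ≤ a := by
      have h2 : 2 ^ i ∣ 2 ^ (a - m) * q := by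
        rcases hcases with ⟨e, -⟩ | ⟨-, e⟩
        · obtain ⟨n, ρ, hρ, hχρ⟩ := χ.2
          haveI := hρ
          have h3 := CharCore.isIntegral_index_mul_character_div ρ y
          obtain ⟨K, -, -, -, -⟩ := exists_complement h hy hy1
          have hy3 : 3 ∣ orderOf y := by
            obtain ⟨k, hk⟩ := IsPGroup.iff_orderOf.mp P.2 ⟨y, hy⟩
            rw [Subgroup.orderOf_mk] at hk
            rcases Nat.eq_zero_or_pos k with rfl | hk0
            · exact absurd (orderOf_eq_one_iff.mp (by simpa using hk)) hy1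
            · exact hk ▸ dvd_pow_self 3 hk0.ne'
          rw [hχρ, hval y hy3, hidx] at h3
          have h4 := h3.mul (isIntegral_algebraMap (R := ℤ) (A := ℂ) (x := -c))
          refine e ▸ BC86.dvd_of_isIntegral h4 ?_
          have h5 : (Module.finrank ℂ (Fin n → ℂ) : ℂ) = (A : ℂ) := by
            rw [hA, ← irr_one_eq, ← hχρ, Representation.char_one]
          have hA0 : (A : ℂ) ≠ 0 := Nat.cast_ne_zero.mpr (by omega)
          have hcc : (c : ℂ) * c = 1 := by rcases hc with rfl | rfl <;> norm_num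
          rw [h5, eq_intCast, Int.cast_neg]
          field_simp
          linear_combination -((2 ^ (a - m) * q : ℕ) : ℂ) * hcc
        · have h3 := hint y hy hy1
          rw [hidx, irr_one_eq, ← hB] at h3
          refine e ▸ BC86.dvd_of_isIntegral h3 ?_
          have hB0 : (B : ℂ) ≠ 0 := Nat.cast_ne_zero.mpr (by omega)
          field_simp
      have := (Nat.pow_dvd_pow_iff_le_right one_lt_two).mp ((Nat.Coprime.pow_left _
        ((Nat.coprime_primes Nat.prime_two hq).mpr (Ne.symm hq2))).dvd_of_dvd_mul_right h2)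
      omega
    have hlow : a ≤ i + m := by
      -- a central element of a Sylow `2`-subgroup
      haveI : Fact (Nat.Prime 2) := ⟨Nat.prime_two⟩
      obtain ⟨T⟩ : Nonempty (Sylow 2 G) := inferInstance
      have hTcard : Nat.card (T : Subgroup G) = 2 ^ a := by
        refine SmallGroups.card_sylow_eq (m := 9 * q) (by rw [hcard]; ring) ?_ T
        intro h2
        rcases Nat.prime_two.dvd_mul.mp h2 with h2 | h2
        · norm_num at h2
        · exact hq2 ((Nat.prime_dvd_prime_iff_eq Nat.prime_two hq).mp h2).symm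
      haveI : Nontrivial (T : Subgroup G) := by
        rw [← Finite.one_lt_card_iff_nontrivial, hTcard]
        exact Nat.one_lt_pow (by omega) one_lt_two
      haveI := T.2.center_nontrivial
      obtain ⟨⟨⟨t, htT⟩, htc⟩, ht1⟩ := exists_ne (1 : center (T : Subgroup G))
      have ht1' : t ≠ 1 := fun e => ht1 (Subtype.ext (Subtype.ext e))
      obtain ⟨k, hk⟩ := IsPGroup.iff_orderOf.mp T.2 ⟨t, htT⟩
      rw [Subgroup.orderOf_mk] at hk
      have ht3 : ¬ 3 ∣ orderOf t := fun hd => by
        have := Nat.prime_three.dvd_of_dvd_pow (hk ▸ hd)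
        norm_num at this
      have hTC : (T : Subgroup G) ≤ centralizer ({t} : Set G) := fun s hs =>
        mem_centralizer_singleton_iff.mpr (congrArg Subtype.val (mem_center_iff.mp htc ⟨s, hs⟩))
      have h2C : 2 ^ a ∣ Nat.card (centralizer ({t} : Set G)) := hTcard ▸ card_dvd_of_le hTC
      have hzero : ∀ ψ : Cfsg.IrrCharacter G, ψ ≠ oneIrr G → charDegree (ψ : G → ℂ) = 2 ^ i →
          (ψ : G → ℂ) t = 0 := by
        intro ψ hψ hdeg
        refine apply_eq_zero hG hψ ht1' ?_
        rw [hdeg]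
        refine Nat.Coprime.pow_left _ (Nat.prime_two.coprime_iff_not_dvd.mpr fun h2 => ?_)
        exact T.not_dvd_index' FiniteIndex.index_ne_zero (h2.trans (index_dvd_of_le hTC))
      set K := Nat.card {x : G // IsConj t x}
      set N := Nat.card {p : G × G // IsConj t p.1 ∧ IsConj t p.2 ∧
          ∃ z, IsPPart 3 (p.1 * p.2) z ∧ IsConj y z} with hN
      have heq := hpairs y hy hy1 t ht3
      have hregt := hreg t ht3
      push_cast at heq hregt
      have hcc : (c : ℂ) * c = 1 := by rcases hc with rfl | rfl <;> norm_num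
      have hB0 : (B : ℂ) ≠ 0 := Nat.cast_ne_zero.mpr (by omega)
      have hA0 : (A : ℂ) ≠ 0 := Nat.cast_ne_zero.mpr (by omega)
      have hεB' : -(c : ℂ) * B = 1 - c * A := by exact_mod_cast hεB
      have hkey : 9 * N * q = K ^ 2 * 2 ^ i := by
        rcases hcases with ⟨eA, eB⟩ | ⟨eA, eB⟩
        · rw [hzero χ hχ1 eA] at heq hregt
          rw [irr_one_eq, irr_one_eq, ← hA, ← hB] at heq
          have hth : (θ : G → ℂ) t = -(c : ℂ) := by
            linear_combination (-(c : ℂ)) * hregt - (θ : G → ℂ) t * hcc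
          rw [hth] at heq
          rw [← eB, ← eA]
          apply Nat.cast_injective (R := ℂ)
          push_cast
          have hS : (1 : ℂ) - c * (0 ^ 2 / A) - -(c : ℂ) * ((-(c : ℂ)) ^ 2 / B) = A / B := by
            field_simp
            linear_combination (-(c : ℂ) * A) * hεB' + ((A : ℂ) * ((c : ℂ) + A - B)) * hcc
          rw [hS] at heq
          field_simp at heq
          linear_combination heq
        · rw [hzero θ hθ1 eB] at heq hregt
          rw [irr_one_eq, irr_one_eq, ← hA, ← hB] at heq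
          have hch : (χ : G → ℂ) t = (c : ℂ) := by
            linear_combination (c : ℂ) * hregt - (χ : G → ℂ) t * hcc
          rw [hch] at heq
          rw [← eA, ← eB]
          apply Nat.cast_injective (R := ℂ)
          push_cast
          have hS : (1 : ℂ) - c * ((c : ℂ) ^ 2 / A) - -(c : ℂ) * (0 ^ 2 / B) = B / A := by
            field_simp
            linear_combination ((c : ℂ) * B) * hεB' + ((B : ℂ) * (-(c : ℂ) + B - A)) * hcc
          rw [hS] at heq
          field_simp at heq
          linear_combination heq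
      have hK : K * Nat.card (centralizer ({t} : Set G)) = Nat.card G :=
        Cfsg.Agent.Involution.card_isConj_mul_card_centralizer t
      have hK0 : 0 < K := by
        haveI : Nonempty {x : G // IsConj t x} := ⟨⟨t, IsConj.refl t⟩⟩
        exact Nat.card_pos
      have hK9 : K ≤ 9 * q := by
        refine Nat.le_of_mul_le_mul_right (c := 2 ^ a) ?_ (by positivity)
        calc K * 2 ^ a ≤ K * Nat.card (centralizer ({t} : Set G)) :=
              Nat.mul_le_mul_left _ (Nat.le_of_dvd Nat.card_pos h2C)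
          _ = 9 * 2 ^ a * q := hK.trans hcard
          _ = 9 * q * 2 ^ a := by ring
      have hNne : Nonempty {p : G × G // IsConj t p.1 ∧ IsConj t p.2 ∧
          ∃ z, IsPPart 3 (p.1 * p.2) z ∧ IsConj y z} := by
        by_contra he
        haveI := not_nonempty_iff.mp he
        rw [show N = 0 from Nat.card_of_isEmpty, mul_zero, zero_mul, eq_comm, mul_eq_zero] at hkey
        rcases hkey with h0 | h0
        · exact hK0.ne' (pow_eq_zero_iff (two_ne_zero) |>.mp h0)
        · exact absurd h0 (by positivity)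
      have hG' := card_le_pairs h hy hy1 ht3 hm hNne
      rw [hcard, ← hN] at hG'
      have hNle : N ≤ 9 * q * 2 ^ i := by
        refine Nat.le_of_mul_le_mul_left (c := 9 * q) ?_ (Nat.mul_pos (by norm_num) hq.pos)
        calc 9 * q * N = K ^ 2 * 2 ^ i := by rw [← hkey]; ring
          _ ≤ (9 * q) ^ 2 * 2 ^ i := by gcongr
          _ = _ := by ring
      have hfin : 9 * q * 2 ^ a ≤ 9 * q * 2 ^ (i + m) := by
        calc 9 * q * 2 ^ a = 9 * 2 ^ a * q := by ring
          _ ≤ 2 ^ m * N := hG'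
          _ ≤ 2 ^ m * (9 * q * 2 ^ i) := by gcongr
          _ = _ := by rw [pow_add]; ring
      exact (Nat.pow_le_pow_iff_right one_lt_two).mp
        (Nat.le_of_mul_le_mul_left hfin (Nat.mul_pos (by norm_num) hq.pos))
    omega
  · have hsmall := small_cases hq hq3 hi1 hi4 hq'
    have hc1 : c = 1 := by
      rcases hsmall with ⟨rfl, rfl⟩ | ⟨rfl, rfl⟩ | ⟨rfl, rfl⟩ <;> norm_num at hcases <;>
        rcases hc with rfl | rfl <;> omega
    subst hc1
    refine ⟨?_, fun g hg => ?_, fun g hg => ?_, fun y hy hy1 t ht => ?_⟩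
    · rcases hsmall with ⟨rfl, rfl⟩ | ⟨rfl, rfl⟩ | ⟨rfl, rfl⟩ <;> norm_num at hcases ⊢ <;> omega
    · have := hreg g hg
      push_cast at this
      linear_combination -this
    · simpa using hval g hg
    · rw [hpairs y hy hy1 t ht]; push_cast; ring

/-- The inverted case. -/
theorem main [IsSimpleGroup G] (hG : ¬ IsMulCommutative G) {q a b : ℕ} (hq : q.Prime)
    (hq2 : q ≠ 2) (hq3 : q ≠ 3) (hcard : Nat.card G = 9 * 2 ^ a * q ^ b)
    (hinv : ∀ P : Sylow 3 G, Inverted P) :
    (∃ (F : Type) (_ : Field F) (_ : Fintype F), Fintype.card F = 8 ∧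
        Nonempty (G ≃* Matrix.ProjectiveSpecialLinearGroup (Fin 2) F)) ∨
      Nonempty (G ≃* Matrix.ProjectiveSpecialLinearGroup (Fin 2) (ZMod 17)) := by
  classical
  obtain ⟨P⟩ : Nonempty (Sylow 3 G) := inferInstance
  obtain ⟨rfl, i, χ, θ, hi1, hia, hq', hχ, hC, hsmall⟩ := core hG hq hq2 hq3 hcard (hinv P)
  rw [pow_one] at hcard
  rcases small_or_nine hG hq hq2 hq3 hcard hi1 hq' with h | ⟨S, h9, x, hxS, hx⟩
  · have hi4 : i ≤ 4 := by rcases h with ⟨-, h⟩ | ⟨-, h⟩ | ⟨-, h⟩ <;> omega
    obtain ⟨hcases, hreg, hval, hpairs⟩ := hsmall hi4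
    have hai : a = i := by
      by_contra hne
      obtain ⟨y, hy, hy1, hexp⟩ : ∃ y ∈ (P : Subgroup G), y ≠ 1 ∧
          (orderOf y = 3 → ∀ z ∈ (P : Subgroup G), z ^ 3 = 1) := by
        by_cases hno : ∃ y ∈ (P : Subgroup G), orderOf y = 9
        · obtain ⟨y, hy, h9'⟩ := hno
          exact ⟨y, hy, fun e => by rw [e, orderOf_one] at h9'; norm_num at h9',
            fun e => by omega⟩
        · obtain ⟨y, hy, hy1⟩ := exists_ne_one (hinv P)
          refine ⟨y, hy, hy1, fun _ z hz => orderOf_dvd_iff_pow_eq_one.mp ?_⟩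
          have h9' : orderOf z ∣ 3 ^ 2 := by
            have := orderOf_dvd_natCard (⟨z, hz⟩ : (P : Subgroup G))
            rwa [(hinv P).card, Subgroup.orderOf_mk] at this
          obtain ⟨j, hj, hj'⟩ := (Nat.dvd_prime_pow Nat.prime_three).mp h9'
          push Not at hno
          have : j ≠ 2 := fun e => hno z hz (by rw [hj', e]; norm_num)
          rw [hj']
          exact (pow_dvd_pow 3 (show j ≤ 1 by omega)).trans (by norm_num)
      haveI : Fact (Nat.Prime 2) := ⟨Nat.prime_two⟩
      obtain ⟨d, hd⟩ := exists_prime_orderOf_dvd_card' (G := centralizer ({y} : Set G)) 2 (by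
        rw [hC y hy hy1]; exact (dvd_pow_self 2 (by omega)).mul_left 9)
      refine false_of_involution hG (hinv P) hχ hreg hval ?_ hpairs hy hy1 hexp
        (d := (d : G)) (by rw [orderOf_coe]; exact hd)
        (mem_centralizer_singleton_iff.mp d.2).symm
      rcases hcases with ⟨-, -, e⟩ | ⟨-, -, e⟩ <;> simp [e]
    subst hai
    rcases hcases with ⟨rfl, rfl, -⟩ | ⟨rfl, rfl, -⟩
    · left
      haveI : Fact (Nat.Prime 2) := ⟨Nat.prime_two⟩
      letI : Fintype (GaloisField 2 3) := Fintype.ofFinite _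
      have hF : Fintype.card (GaloisField 2 3) = 8 := by
        rw [← Nat.card_eq_fintype_card, GaloisField.card 2 3 (by norm_num)]; norm_num
      exact ⟨GaloisField 2 3, inferInstance, inferInstance, hF,
        S1011.result (by rw [hcard]; norm_num) hF⟩
    · right
      haveI : Fact (Nat.Prime 17) := ⟨by norm_num⟩
      exact S1020.result (by rw [hcard]; norm_num) (ZMod.card 17)
  · exfalso
    obtain ⟨P', hPx⟩ := (IsPGroup.of_card (n := 2) (by rw [Nat.card_zpowers, hx]; norm_num) :
      IsPGroup 3 (zpowers x)).exists_le_sylow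
    obtain ⟨-, j, -, -, hj1, hja, hj', -, hC', -⟩ :=
      core hG hq hq2 hq3 (a := a) (b := 1) (by rw [hcard, pow_one]) (hinv P')
    have hMer : q + 1 = 2 ^ j := by
      refine hj'.resolve_left fun h => ?_
      have h3 : 3 ∣ 2 ^ j := by rw [h, Nat.add_sub_cancel] at h9; exact dvd_trans (by norm_num) h9
      have := Nat.prime_three.dvd_of_dvd_pow h3
      norm_num at this
    exact false_of_nine hG hq hq2 hq3 hcard hinv h9 hMer hja hxS hx
      (hC' x (hPx (mem_zpowers x)) fun e => by rw [e, orderOf_one] at hx; norm_num at hx)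

end Cfsg.Agent.NinePQ.Inv
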