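import Cfsg.Agent.NinePQ.Inv.Local
import Mathlib.LinearAlgebra.Trace

/-!
# Projections attached to an element of odd order and an involution
-/

set_option autoImplicit false
set_option linter.style.haveILetI false
set_option linter.unusedSectionVars false

namespace Cfsg.Agent.NinePQ.Inv

open Subgroup Cfsg.Agent.BlocksCore

variable {G : Type*} [Group G] {V : Type*} [AddCommGroup V] [Module ℂ V] [FiniteDimensional ℂ V]

theorem exists_rank {T : Module.End ℂ V} (hT : T * T = T) :
    ∃ n : ℕ, LinearMap.trace ℂ V T = n ∧ (n = 0 → T = 0) := by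
  have hp : LinearMap.IsProj (LinearMap.range T) T :=
    ⟨fun x => LinearMap.mem_range_self T x, fun x ⟨y, hy⟩ => by
      rw [← hy]; exact LinearMap.congr_fun hT y⟩
  refine ⟨_, hp.trace, fun h0 => LinearMap.range_eq_bot.mp ?_⟩
  exact Submodule.finrank_eq_zero.mp h0

variable (ρ : Representation ℂ G V)

/-- The projection on the fixed points of `y`. -/
noncomputable def avg (y : G) : Module.End ℂ V :=
  (orderOf y : ℂ)⁻¹ • ∑ k ∈ Finset.range (orderOf y), ρ (y ^ k)

theorem sum_pow_mul (y : G) :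
    ρ y * ∑ k ∈ Finset.range (orderOf y), ρ (y ^ k) =
      ∑ k ∈ Finset.range (orderOf y), ρ (y ^ k) := by
  rw [Finset.mul_sum]
  simp only [← map_mul, ← pow_succ']
  have h := Finset.sum_range_succ' (fun k => ρ (y ^ k)) (orderOf y)
  rw [Finset.sum_range_succ, pow_orderOf_eq_one, pow_zero] at h
  exact (add_right_cancel h).symm

theorem mul_avg (y : G) : ρ y * avg ρ y = avg ρ y := by
  rw [avg, mul_smul_comm, sum_pow_mul]

theorem pow_mul_avg (y : G) (k : ℕ) : ρ (y ^ k) * avg ρ y = avg ρ y := by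
  induction k with
  | zero => rw [pow_zero, map_one, one_mul]
  | succ k ih => rw [pow_succ', map_mul, mul_assoc, ih, mul_avg]

theorem avg_mul_self {y : G} (hy : orderOf y ≠ 0) : avg ρ y * avg ρ y = avg ρ y := by
  conv_lhs => arg 1; rw [avg]
  rw [smul_mul_assoc, Finset.sum_mul, Finset.sum_congr rfl fun k _ => pow_mul_avg ρ y k,
    Finset.sum_const, Finset.card_range, ← Nat.cast_smul_eq_nsmul ℂ, smul_smul,
    inv_mul_cancel₀ (Nat.cast_ne_zero.mpr hy), one_smul]

theorem trace_avg_mul (y g : G) : LinearMap.trace ℂ V (avg ρ y * ρ g) =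
    (orderOf y : ℂ)⁻¹ * ∑ k ∈ Finset.range (orderOf y), ρ.character (y ^ k * g) := by
  rw [avg, smul_mul_assoc, map_smul, Finset.sum_mul, map_sum, smul_eq_mul]
  simp only [← map_mul]
  rfl

theorem trace_avg (y : G) : LinearMap.trace ℂ V (avg ρ y) =
    (orderOf y : ℂ)⁻¹ * ∑ k ∈ Finset.range (orderOf y), ρ.character (y ^ k) := by
  simpa using trace_avg_mul ρ y 1

theorem avg_conj (y x : G) : ρ x * avg ρ y = avg ρ (x * y * x⁻¹) * ρ x := by
  have ho : orderOf (x * y * x⁻¹) = orderOf y := MulEquiv.orderOf_eq (MulAut.conj x) y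
  rw [avg, avg, ho, mul_smul_comm, smul_mul_assoc, Finset.mul_sum, Finset.sum_mul]
  congr 1
  refine Finset.sum_congr rfl fun k _ => ?_
  rw [← map_mul, ← map_mul, conj_pow, inv_mul_cancel_right]

theorem avg_inv (y : G) : avg ρ y⁻¹ = avg ρ y := by
  rcases Nat.eq_zero_or_pos (orderOf y) with h | h
  · simp [avg, h]
  rw [avg, avg, orderOf_inv]
  congr 1
  refine Finset.sum_nbij' (fun k => (orderOf y - k) % orderOf y) (fun k => (orderOf y - k) % orderOf y)
    (fun k _ => Finset.mem_range.mpr (Nat.mod_lt _ h)) (fun k _ => Finset.mem_range.mpr (Nat.mod_lt _ h))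
    ?_ ?_ ?_
  all_goals intro k hk
  all_goals have hk' := Finset.mem_range.mp hk
  · rcases Nat.eq_zero_or_pos k with rfl | hk0
    · simp
    · rw [Nat.mod_eq_of_lt (show orderOf y - k < orderOf y by omega),
        Nat.mod_eq_of_lt (show orderOf y - (orderOf y - k) < orderOf y by omega)]
      omega
  · rcases Nat.eq_zero_or_pos k with rfl | hk0
    · simp
    · rw [Nat.mod_eq_of_lt (show orderOf y - k < orderOf y by omega),
        Nat.mod_eq_of_lt (show orderOf y - (orderOf y - k) < orderOf y by omega)]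
      omega
  · congr 1
    rw [pow_mod_orderOf, inv_pow, ← mul_right_inj (y ^ k), mul_inv_cancel, ← pow_add,
      Nat.add_sub_cancel' hk'.le, pow_orderOf_eq_one]

/-- For `F` commuting with `avg` and squaring to one, both halves have natural rank. -/
theorem exists_halves {y g : G} (hy : orderOf y ≠ 0) (hg : g * g = 1)
    (hc : ρ g * avg ρ y = avg ρ y * ρ g) :
    (∃ n : ℕ, LinearMap.trace ℂ V (avg ρ y) - LinearMap.trace ℂ V (avg ρ y * ρ g) = 2 * n ∧
      (n = 0 → avg ρ y * ρ g = avg ρ y)) ∧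
    (∃ n : ℕ, LinearMap.trace ℂ V (avg ρ y) + LinearMap.trace ℂ V (avg ρ y * ρ g) = 2 * n) := by
  have hgg : ρ g * ρ g = 1 := by rw [← map_mul, hg, map_one]
  have key : ∀ s : ℂ, s * s = 1 →
      ((2 : ℂ)⁻¹ • (avg ρ y + s • (avg ρ y * ρ g))) * ((2 : ℂ)⁻¹ • (avg ρ y + s • (avg ρ y * ρ g))) =
        (2 : ℂ)⁻¹ • (avg ρ y + s • (avg ρ y * ρ g)) := by
    intro s hs
    have e1 := avg_mul_self ρ hy
    have e2 : avg ρ y * (avg ρ y * ρ g) = avg ρ y * ρ g := by rw [← mul_assoc, e1]
    have e3 : (avg ρ y * ρ g) * avg ρ y = avg ρ y * ρ g := by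
      rw [mul_assoc, hc, ← mul_assoc, e1]
    have e4 : (avg ρ y * ρ g) * (avg ρ y * ρ g) = avg ρ y := by
      rw [← mul_assoc, e3, mul_assoc, hgg, mul_one]
    rw [smul_mul_smul_comm]
    simp only [add_mul, mul_add, smul_mul_assoc, mul_smul_comm, e1, e2, e3, e4, smul_add, smul_smul]
    match_scalars <;> first
      | linear_combination ((4 : ℂ)⁻¹) * hs
      | ring
  refine ⟨?_, ?_⟩
  · obtain ⟨n, hn, hn0⟩ := exists_rank (key (-1) (by norm_num))
    refine ⟨n, ?_, fun h0 => ?_⟩
    · rw [map_smul, map_add, map_smul, smul_eq_mul, smul_eq_mul] at hn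
      linear_combination 2 * hn
    · have h1 := (smul_eq_zero.mp (hn0 h0)).resolve_left (by norm_num)
      rw [neg_one_smul, ← sub_eq_add_neg, sub_eq_zero] at h1
      exact h1.symm
  · obtain ⟨n, hn, -⟩ := exists_rank (key 1 (by norm_num))
    refine ⟨n, ?_⟩
    rw [map_smul, map_add, map_smul, smul_eq_mul, smul_eq_mul] at hn
    linear_combination 2 * hn

end Cfsg.Agent.NinePQ.Inv
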