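import Cfsg.Agent.NinePQ.Inv.Trace

/-!
# No involution commutes with a `3`-element when the degrees are `8, 7` or `17, 16`
-/

set_option autoImplicit false
set_option linter.style.haveILetI false
set_option linter.unusedSectionVars false

namespace Cfsg.Agent.NinePQ.Inv

open Subgroup Cfsg.Agent.BlocksCore BlocksDefect AbelianPrincipal AbelianShape CyclicPrincipal

variable {G : Type*} [Group G] [Fintype G] [Fact (Nat.Prime 3)] {P : Sylow 3 G}

theorem singular_mul_involution {z d : G} {k : ℕ} (hz : orderOf z = 3 ^ k) (hk : k ≠ 0)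
    (hd : ¬ 3 ∣ orderOf d) (hc : Commute z d) : 3 ∣ orderOf (z * d) := by
  rw [hc.orderOf_mul_eq_mul_orderOf_of_coprime (by
    rw [hz]; exact Nat.Coprime.pow_left _ (Nat.prime_three.coprime_iff_not_dvd.mpr hd)), hz]
  exact Dvd.dvd.mul_right (dvd_pow_self 3 hk) _

theorem false_of_involution [IsSimpleGroup G] (hG : ¬ IsMulCommutative G) (h : Inverted P)
    {χ θ : Cfsg.IrrCharacter G} (hχ : χ ≠ oneIrr G)
    (hreg : ∀ g : G, ¬ 3 ∣ orderOf g → (θ : G → ℂ) g = (χ : G → ℂ) g - 1)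
    (hval : ∀ g : G, 3 ∣ orderOf g → (χ : G → ℂ) g = -1)
    (hdeg : charDegree (χ : G → ℂ) = 8 ∨ charDegree (χ : G → ℂ) = 17)
    (hpairs : ∀ y ∈ (P : Subgroup G), y ≠ 1 → ∀ t : G, ¬ 3 ∣ orderOf t →
      9 * (Nat.card {p : G × G // IsConj t p.1 ∧ IsConj t p.2 ∧
          ∃ z, IsPPart 3 (p.1 * p.2) z ∧ IsConj y z} : ℂ) =
        (Nat.card {x : G // IsConj t x} : ℂ) ^ 2 *
          (1 - (χ : G → ℂ) t ^ 2 / (χ : G → ℂ) 1 + (θ : G → ℂ) t ^ 2 / (θ : G → ℂ) 1))
    {y : G} (hy : y ∈ (P : Subgroup G)) (hy1 : y ≠ 1)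
    (hexp : orderOf y = 3 → ∀ z ∈ (P : Subgroup G), z ^ 3 = 1)
    {d : G} (hd : orderOf d = 2) (hyd : Commute y d) : False := by
  classical
  obtain ⟨k0, hk0⟩ := IsPGroup.iff_orderOf.mp P.2 ⟨y, hy⟩
  rw [Subgroup.orderOf_mk] at hk0
  have hr : orderOf y = 3 ∨ orderOf y = 9 := by
    have h9 : orderOf y ∣ 3 ^ 2 := by
      have := orderOf_dvd_natCard (⟨y, hy⟩ : (P : Subgroup G))
      rwa [h.card, Subgroup.orderOf_mk] at this
    obtain ⟨j, hj, hj'⟩ := (Nat.dvd_prime_pow Nat.prime_three).mp h9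
    have hv : j = 0 ∨ j = 1 ∨ j = 2 := by omega
    rcases hv with rfl | rfl | rfl
    · exact absurd (orderOf_eq_one_iff.mp hj') hy1
    · exact Or.inl hj'
    · exact Or.inr hj'
  have hd3 : ¬ 3 ∣ orderOf d := by rw [hd]; norm_num
  have hd2 : d ^ 2 = 1 := hd ▸ pow_orderOf_eq_one d
  have hd1 : d ≠ 1 := fun e => by rw [e, orderOf_one] at hd; norm_num at hd
  obtain ⟨v, hv, hv1, hv2, hv4⟩ := SmallGroups.SelfCent.exists_int_value_four hG χ hd2
  have hdegS : (SmallGroups.SelfCent.Setup.deg χ : ℤ) = (charDegree (χ : G → ℂ) : ℤ) := by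
    have e1 := (SmallGroups.SelfCent.Setup.deg_spec χ).2.2
    rw [irr_one_eq] at e1
    exact_mod_cast e1.symm
  rw [hdegS] at hv1 hv2 hv4
  have hvne : v ≠ (charDegree (χ : G → ℂ) : ℤ) := fun e =>
    hd1 (faithful hχ d (by rw [hv, e, irr_one_eq]; simp))
  obtain ⟨n, ρ, hρ, hχρ⟩ := χ.2
  have hpos : orderOf y ≠ 0 := by rcases hr with e | e <;> omega
  have hone : ρ.character 1 = (charDegree (χ : G → ℂ) : ℂ) := by rw [hχρ, irr_one_eq]
  have hpk : ∀ k ∈ (Finset.range (orderOf y)).erase 0, ∃ j, j ≠ 0 ∧ orderOf (y ^ k) = 3 ^ j := by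
    intro k hk
    obtain ⟨hk0', hk'⟩ := Finset.mem_erase.mp hk
    obtain ⟨j, -, hj⟩ := (Nat.dvd_prime_pow Nat.prime_three).mp
      (hk0 ▸ orderOf_pow_dvd (x := y) k)
    refine ⟨j, ?_, hj⟩
    rintro rfl
    exact pow_ne_one_of_lt_orderOf hk0' (Finset.mem_range.mp hk') (orderOf_eq_one_iff.mp hj)
  have htrE : LinearMap.trace ℂ _ (avg ρ y) =
      (orderOf y : ℂ)⁻¹ * ((charDegree (χ : G → ℂ) : ℂ) - ((orderOf y : ℂ) - 1)) := by
    rw [trace_avg, ← Finset.add_sum_erase _ _ (Finset.mem_range.mpr (Nat.pos_of_ne_zero hpos)),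
      pow_zero, hone, Finset.sum_congr rfl (g := fun _ => (-1 : ℂ)) (fun k hk => ?_),
      Finset.sum_const, Finset.card_erase_of_mem (Finset.mem_range.mpr (Nat.pos_of_ne_zero hpos)),
      Finset.card_range, nsmul_eq_mul, Nat.cast_sub (Nat.pos_of_ne_zero hpos)]
    · push_cast; ring
    · obtain ⟨j, hj0, hj⟩ := hpk k hk
      rw [hχρ]
      exact hval _ (hj ▸ dvd_pow_self 3 hj0)
  have htrd : LinearMap.trace ℂ _ (avg ρ y * ρ d) =
      (orderOf y : ℂ)⁻¹ * ((v : ℂ) - ((orderOf y : ℂ) - 1)) := by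
    rw [trace_avg_mul, ← Finset.add_sum_erase _ _ (Finset.mem_range.mpr (Nat.pos_of_ne_zero hpos)),
      pow_zero, one_mul, show ρ.character d = v by rw [hχρ, hv],
      Finset.sum_congr rfl (g := fun _ => (-1 : ℂ)) (fun k hk => ?_), Finset.sum_const,
      Finset.card_erase_of_mem (Finset.mem_range.mpr (Nat.pos_of_ne_zero hpos)),
      Finset.card_range, nsmul_eq_mul, Nat.cast_sub (Nat.pos_of_ne_zero hpos)]
    · push_cast; ring
    · obtain ⟨j, hj0, hj⟩ := hpk k hk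
      rw [hχρ]
      exact hval _ (singular_mul_involution hj hj0 hd3 (hyd.pow_left k))
  obtain ⟨⟨m, hm, -⟩, -⟩ := exists_halves ρ hpos (by rw [← pow_two, hd2])
    (by rw [avg_conj, ← hyd.eq, mul_inv_cancel_right])
  rw [htrE, htrd] at hm
  have hm' : (charDegree (χ : G → ℂ) : ℤ) - v = 2 * orderOf y * m := by
    apply Int.cast_injective (α := ℂ)
    have hne : (orderOf y : ℂ) ≠ 0 := Nat.cast_ne_zero.mpr hpos
    field_simp at hm
    push_cast
    linear_combination hm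
  rcases hr with hr | hr
  swap
  · rw [hr] at hm'
    push_cast at hm'
    omega
  rw [hr] at hm'
  push_cast at hm'
  -- an inverting conjugate
  have hcases : (charDegree (χ : G → ℂ) = 8 ∧ v = -4) ∨
      (charDegree (χ : G → ℂ) = 17 ∧ (v = 5 ∨ v = -7)) := by omega
  have hθd : (θ : G → ℂ) d = (v : ℂ) - 1 := by rw [hreg d hd3, hv]
  have hθ1 : (θ : G → ℂ) 1 = (charDegree (χ : G → ℂ) : ℂ) - 1 := by
    rw [hreg 1 (by rw [orderOf_one]; norm_num), irr_one_eq]
  have hN := hpairs y hy hy1 d hd3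
  rw [hv, hθd, hθ1, irr_one_eq] at hN
  have hne : Nonempty {p : G × G // IsConj d p.1 ∧ IsConj d p.2 ∧
      ∃ z, IsPPart 3 (p.1 * p.2) z ∧ IsConj y z} := by
    by_contra he
    haveI := not_nonempty_iff.mp he
    rw [Nat.card_of_isEmpty, Nat.cast_zero, mul_zero, eq_comm, mul_eq_zero] at hN
    rcases hN with hN | hN
    · haveI : Nonempty {x : G // IsConj d x} := ⟨⟨d, IsConj.refl d⟩⟩
      exact pow_ne_zero 2 (Nat.cast_ne_zero.mpr Nat.card_pos.ne') hN
    · rcases hcases with ⟨e1, e2⟩ | ⟨e1, e2 | e2⟩ <;> rw [e1, e2] at hN <;> norm_num at hN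
  obtain ⟨⟨⟨g0, k1⟩, hg0, hk1, z, hz, hyz⟩⟩ := hne
  obtain ⟨c, hcz⟩ := isConj_iff.mp hyz.symm
  have hsq : ∀ x, IsConj d x → x * x = 1 := fun x hx => by
    obtain ⟨e, rfl⟩ := isConj_iff.mp hx
    rw [conj_mul, ← pow_two, hd2, mul_one, mul_inv_cancel]
  set g := c * g0 * c⁻¹ with hgdef
  have hgconj : IsConj d g := hg0.trans (isConj_iff.mpr ⟨c, rfl⟩)
  have hgg : g * g = 1 := hsq g hgconj
  have hginv : g⁻¹ = g := inv_eq_of_mul_eq_one_right hgg
  have hgy : g * y * g⁻¹ = y⁻¹ := by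
    have e1 : g0 * (g0 * k1) * g0⁻¹ = (g0 * k1)⁻¹ := by
      rw [← mul_assoc g0, hsq g0 hg0, one_mul, mul_inv_rev,
        inv_eq_of_mul_eq_one_right (hsq k1 hk1)]
    have hz' : IsPPart 3 (g0 * k1)⁻¹ z⁻¹ := by
      obtain ⟨w, hw, hcw, hk', hw'⟩ := hz
      refine ⟨w⁻¹, ?_, hcw.inv_inv, by rwa [orderOf_inv], by rwa [orderOf_inv]⟩
      rw [← mul_inv_rev, ← hcw.eq, hw]
    have e2 : g0 * z * g0⁻¹ = z⁻¹ := by
      have e3 := isPPart_conj hz g0
      simp only at e3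
      rw [e1] at e3
      exact isPPart_unique Nat.prime_three e3 hz'
    rw [← hcz, hgdef]
    calc c * g0 * c⁻¹ * (c * z * c⁻¹) * (c * g0 * c⁻¹)⁻¹ = c * (g0 * z * g0⁻¹) * c⁻¹ := by group
      _ = _ := by rw [e2]; group
  have hχg : ρ.character g = v := by
    obtain ⟨e, he⟩ := isConj_iff.mp hgconj
    rw [hχρ, ← he, irr_class χ d e, hv]
  have hy3 : y ^ 3 = 1 := hr ▸ pow_orderOf_eq_one y
  have hflip : g * y⁻¹ = y * g := by
    calc g * y⁻¹ = g * (g * y * g⁻¹) := by rw [hgy]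
      _ = g * g * y * g⁻¹ := by simp only [mul_assoc]
      _ = y * g := by rw [hgg, one_mul, hginv]
  have htrg : LinearMap.trace ℂ _ (avg ρ y * ρ g) = v := by
    have h1 : ρ.character (y * g) = v := by
      rw [hχρ, ← hχg, hχρ, ← irr_class χ g (y ^ 2)]
      refine congrArg (χ : G → ℂ) (Eq.symm ?_)
      calc y ^ 2 * g * (y ^ 2)⁻¹ = y ^ 2 * ((g * y⁻¹) * y⁻¹) := by group
        _ = y ^ 2 * (y * (y * g)) := by rw [hflip, mul_assoc, hflip]
        _ = y ^ 3 * (y * g) := by simp only [pow_succ, pow_zero, one_mul, mul_assoc]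
        _ = y * g := by rw [hy3, one_mul]
    have h2 : ρ.character (y ^ 2 * g) = v := by
      rw [hχρ, ← hχg, hχρ, ← irr_class χ g y]
      refine congrArg (χ : G → ℂ) ?_
      rw [mul_assoc y g, hflip, pow_two, mul_assoc]
    rw [trace_avg_mul, hr]
    simp only [Finset.sum_range_succ, Finset.sum_range_zero, pow_zero, one_mul, pow_one, h1, h2, hχg,
      zero_add]
    push_cast; ring
  obtain ⟨⟨m1, hm1, hm10⟩, m2, hm2⟩ := exists_halves ρ hpos hgg
    (by rw [avg_conj, hgy, avg_inv])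
  rw [htrE, htrg, hr] at hm1 hm2
  have hm1' : (charDegree (χ : G → ℂ) : ℤ) - 2 - 3 * v = 6 * m1 := by
    apply Int.cast_injective (α := ℂ); push_cast at hm1 ⊢; linear_combination 3 * hm1
  have hm2' : (charDegree (χ : G → ℂ) : ℤ) - 2 + 3 * v = 6 * m2 := by
    apply Int.cast_injective (α := ℂ); push_cast at hm2 ⊢; linear_combination 3 * hm2
  have hlast : m1 = 0 ∧ charDegree (χ : G → ℂ) = 17 ∧ v = 5 := by omega
  obtain ⟨hm10', hA, hv5⟩ := hlast
  have hEg : avg ρ y * ρ g = avg ρ y := hm10 hm10'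
  -- a second element of `P`
  obtain ⟨y', hy', hy'out⟩ : ∃ y' ∈ (P : Subgroup G), y' ∉ zpowers y := by
    by_contra hno
    push Not at hno
    have hle := Subgroup.card_le_card_group ((P : Subgroup G).subgroupOf (zpowers y))
    rw [Nat.card_congr (subgroupOfEquivOfLe (fun x hx => hno x hx)).toEquiv, h.card,
      Nat.card_zpowers, hr] at hle
    omega
  have hcommy : Commute y' y := (free h).comm' y' hy' y hy
  have hEy' : ρ y' * avg ρ y = avg ρ y * ρ y' := by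
    rw [avg_conj, hcommy.eq, mul_inv_cancel_right]
  have hE : avg ρ y * ρ (g * y' * g * y'⁻¹) = avg ρ y := by
    rw [map_mul, map_mul, map_mul, ← mul_assoc, ← mul_assoc, ← mul_assoc, hEg, ← hEy',
      mul_assoc (ρ y'), hEg, hEy', mul_assoc, ← map_mul, mul_inv_cancel, map_one, mul_one]
  -- the image in `C(y) / K`
  obtain ⟨K, hKn, hK3, hreg', hC⟩ := exists_complement h hy hy1
  have hPC : (P : Subgroup G) ≤ centralizer ({y} : Set G) := fun x hx =>
    mem_centralizer_singleton_iff.mpr ((free h).comm' x hx y hy)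
  set π := QuotientGroup.mk' K
  let ι : (P : Subgroup G) →* centralizer ({y} : Set G) := Subgroup.inclusion hPC
  have hπinj : Function.Injective (π.comp ι) := by
    rw [← MonoidHom.ker_eq_bot_iff, eq_bot_iff]
    intro x hx
    rw [MonoidHom.mem_ker, MonoidHom.comp_apply, QuotientGroup.mk'_apply,
      QuotientGroup.eq_one_iff] at hx
    obtain ⟨j, hj⟩ := IsPGroup.iff_orderOf.mp P.2 x
    rcases Nat.eq_zero_or_pos j with rfl | hj0
    · rw [Subgroup.mem_bot, ← orderOf_eq_one_iff, hj, pow_zero]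
    · exfalso
      apply not_dvd_of_regular hK3 hx
      rw [← orderOf_coe]
      show 3 ∣ orderOf (x : G)
      rw [orderOf_coe, hj]
      exact dvd_pow_self 3 hj0.ne'
  have hπsurj : Function.Surjective (π.comp ι) := by
    refine (hπinj.bijective_of_nat_card_le ?_).2
    rw [h.card]
    show K.index ≤ 9
    have h1 := K.index_mul_card
    rw [hC] at h1
    exact (Nat.eq_of_mul_eq_mul_right Nat.card_pos h1).le
  have hab : ∀ a b : centralizer ({y} : Set G), π a * π b = π b * π a := by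
    intro a b
    obtain ⟨a', ha'⟩ := hπsurj (π a)
    obtain ⟨b', hb'⟩ := hπsurj (π b)
    rw [← ha', ← hb', ← map_mul, ← map_mul,
      Subtype.ext ((free h).comm' a' a'.2 b' b'.2) (a1 := a' * b') (a2 := b' * a')]
  obtain ⟨n0, hn0, hn0i⟩ := h.inverting
  have hn0y : ∀ x : G, x ∈ centralizer ({y} : Set G) →
      n0 * x * n0⁻¹ ∈ centralizer ({y} : Set G) := by
    intro x hx
    have hcx : Commute x y := mem_centralizer_singleton_iff.mp hx
    have := (hcx.inv_right).map (MulAut.conj n0).toMonoidHom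
    simp only [MulEquiv.coe_toMonoidHom, MulAut.conj_apply] at this
    rw [show n0 * y⁻¹ * n0⁻¹ = y by rw [hn0i _ (inv_mem hy), inv_inv]] at this
    exact mem_centralizer_singleton_iff.mpr this
  have hcmem : n0⁻¹ * g ∈ centralizer ({y} : Set G) := by
    rw [mem_centralizer_singleton_iff]
    have e : n0⁻¹ * y⁻¹ * n0 = y := by
      rw [← hn0i y hy]; group
    calc n0⁻¹ * g * y = n0⁻¹ * (g * y * g⁻¹) * g := by group
      _ = n0⁻¹ * y⁻¹ * n0 * (n0⁻¹ * g) := by rw [hgy]; group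
      _ = y * (n0⁻¹ * g) := by rw [e]
  set cc : centralizer ({y} : Set G) := ⟨_, hcmem⟩
  set Y' : centralizer ({y} : Set G) := ⟨y', hPC hy'⟩
  have hk0' : Y'⁻¹ * (cc * Y' * cc⁻¹) ∈ K := by
    rw [← QuotientGroup.eq_one_iff, ← QuotientGroup.mk'_apply, map_mul, map_mul, map_mul, map_inv,
      map_inv, hab cc Y', mul_inv_cancel_right, inv_mul_cancel]
  set k2 : centralizer ({y} : Set G) := ⟨_, hn0y _ (Y'⁻¹ * (cc * Y' * cc⁻¹)).2⟩
  have hk2K : k2 ∈ K := hreg' _ (by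
    rw [Subgroup.orderOf_mk, show orderOf (n0 * _ * n0⁻¹) = orderOf _ from
      MulEquiv.orderOf_eq (MulAut.conj n0) _, orderOf_coe]
    exact not_dvd_of_regular hK3 hk0')
  have hvval : g * y' * g * y'⁻¹ = y'⁻¹ * (k2 : G) * y'⁻¹ := by
    have e : (k2 : G) = y' * (g * y' * g⁻¹) := by
      show n0 * (y'⁻¹ * (n0⁻¹ * g * y' * (n0⁻¹ * g)⁻¹)) * n0⁻¹ = _
      rw [show n0 * (y'⁻¹ * (n0⁻¹ * g * y' * (n0⁻¹ * g)⁻¹)) * n0⁻¹ =
        n0 * y'⁻¹ * n0⁻¹ * (g * y' * g⁻¹) by group, hn0i _ (inv_mem hy'), inv_inv]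
    rw [e, hginv]; group
  have hy'3 : y' ^ 3 = 1 := hexp hr y' hy'
  have hsing : ∀ k : ℕ, 3 ∣ orderOf (y ^ k * (g * y' * g * y'⁻¹)) := by
    intro k
    rw [hvval]
    set Z : centralizer ({y} : Set G) :=
      ⟨y, hPC hy⟩ ^ k * (Y'⁻¹ * k2 * Y'⁻¹) with hZ
    have hZv : (Z : G) = y ^ k * (y'⁻¹ * (k2 : G) * y'⁻¹) := by simp [hZ, Y']
    rw [← hZv, orderOf_coe]
    by_contra hno
    have h1 := (QuotientGroup.eq_one_iff Z).mpr (hreg' Z hno)
    have h2 : π Z = (π.comp ι) (⟨y, hy⟩ ^ k * (⟨y', hy'⟩⁻¹ * ⟨y', hy'⟩⁻¹)) := by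
      have hk2' : π k2 = 1 := (QuotientGroup.eq_one_iff k2).mpr hk2K
      simp only [hZ, map_mul, map_pow, map_inv, hk2', mul_one, MonoidHom.comp_apply]
      rfl
    rw [show π Z = 1 from h1, eq_comm] at h2
    have h3 := hπinj (h2.trans (map_one _).symm)
    have h4 : y ^ k * (y'⁻¹ * y'⁻¹) = 1 := by simpa using congrArg Subtype.val h3
    apply hy'out
    have h5 : y' = (y ^ k)⁻¹ := by
      have e : y'⁻¹ * y'⁻¹ = y' := by
        rw [← mul_inv_rev, inv_eq_iff_mul_eq_one, mul_assoc, ← hy'3, pow_succ, pow_two, mul_assoc]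
      rw [e] at h4
      exact (inv_eq_of_mul_eq_one_right h4).symm
    rw [h5]
    exact inv_mem (pow_mem (mem_zpowers y) k)
  have h5 : LinearMap.trace ℂ _ (avg ρ y * ρ (g * y' * g * y'⁻¹)) = -1 := by
    rw [trace_avg_mul, hr, Finset.sum_congr rfl (g := fun _ => (-1 : ℂ))
      (fun k _ => by rw [hχρ]; exact hval _ (hsing k))]
    simp
  rw [hE, htrE, hr, hA] at h5
  norm_num at h5

end Cfsg.Agent.NinePQ.Inv
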