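import Cfsg.Agent.NinePQ.Inv.Block

/-!
# Centralisers of `3`-elements and the class of a central involution
-/

set_option autoImplicit false
set_option linter.style.haveILetI false
set_option linter.unusedSectionVars false

namespace Cfsg.Agent.NinePQ.Inv

open Subgroup Cfsg.Agent.BlocksCore BlocksDefect AbelianPrincipal AbelianShape CyclicPrincipal

variable {G : Type*} [Group G] [Fintype G] [Fact (Nat.Prime 3)] {P : Sylow 3 G}

theorem exists_complement (h : Inverted P) {y : G} (hy : y ∈ (P : Subgroup G)) (hy1 : y ≠ 1) :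
    ∃ K : Subgroup (centralizer ({y} : Set G)), K.Normal ∧ ¬ 3 ∣ Nat.card K ∧
      (∀ x, ¬ 3 ∣ orderOf x → x ∈ K) ∧ Nat.card (centralizer ({y} : Set G)) = 9 * Nat.card K := by
  have hf := free h
  obtain ⟨K, h1, h2, h3, h4⟩ := SectionKernel.exists_kernel P hf.comm' hy
    fun n hn hc => hf.cent y hy hy1 ▸ ⟨hc, hn⟩
  refine ⟨K, h1, h2, h3, ?_⟩
  rw [← K.index_mul_card, h4, h.card]

theorem not_dvd_of_regular {H : Type*} [Group H] {K : Subgroup H} (hK : ¬ 3 ∣ Nat.card K) {x : H}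
    (hx : x ∈ K) : ¬ 3 ∣ orderOf x := fun hd =>
  hK (hd.trans (orderOf_mk x hx ▸ orderOf_dvd_natCard (⟨x, hx⟩ : K)))

/-- The order of the centraliser of a `3`-element. -/
theorem card_centralizer [IsSimpleGroup G] (hG : ¬ IsMulCommutative G) {q a : ℕ} (hq : q.Prime)
    (hq2 : q ≠ 2) (hq3 : q ≠ 3) (hcard : Nat.card G = 9 * 2 ^ a * q) (h : Inverted P) {y : G}
    (hy : y ∈ (P : Subgroup G)) (hy1 : y ≠ 1) :
    ∃ m ≤ a, Nat.card (centralizer ({y} : Set G)) = 9 * 2 ^ m ∧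
      (centralizer ({y} : Set G)).index = 2 ^ (a - m) * q := by
  obtain ⟨K, -, hK3, -, hC⟩ := exists_complement h hy hy1
  obtain ⟨k, hk⟩ := IsPGroup.iff_orderOf.mp P.2 ⟨y, hy⟩
  rw [Subgroup.orderOf_mk] at hk
  have hyq : ¬ q ∣ orderOf y := fun hd =>
    hq3 ((Nat.prime_dvd_prime_iff_eq hq Nat.prime_three).mp (hq.dvd_of_dvd_pow (hk ▸ hd)))
  have hnq := not_dvd_of_central hG hq hq2 hq3 hcard hy1 hyq le_rfl
  have hKd : Nat.card K ∣ 2 ^ a * q := by
    refine dvd_of_not_three (n := Nat.card G) (by rw [hcard]; ring) ?_ hK3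
    exact (Dvd.intro_left _ hC.symm).trans (card_subgroup_dvd_card _)
  have hKq : ¬ q ∣ Nat.card K := fun hd => hnq (hd.trans (Dvd.intro_left _ hC.symm))
  obtain ⟨m, hm⟩ := two_pow_of_not_dvd hq (a := a) (b := 1) (by rwa [pow_one]) hKq
  have hcop : Nat.Coprime (2 ^ m) q :=
    Nat.Coprime.pow_left _ ((Nat.coprime_primes Nat.prime_two hq).mpr (Ne.symm hq2))
  have hma : m ≤ a := (Nat.pow_dvd_pow_iff_le_right one_lt_two).mp
    (hcop.dvd_of_dvd_mul_right (hm ▸ hKd))
  refine ⟨m, hma, by rw [hC, hm], ?_⟩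
  have h1 := (centralizer ({y} : Set G)).card_mul_index
  rw [hC, hm, hcard] at h1
  refine Nat.eq_of_mul_eq_mul_left (show 0 < 9 * 2 ^ m by positivity) (h1.trans ?_)
  rw [show 9 * 2 ^ m * (2 ^ (a - m) * q) = 9 * (2 ^ m * 2 ^ (a - m)) * q by ring, ← pow_add,
    Nat.add_sub_cancel' hma]

/-- No element of order `3` centralises two regular elements whose product is singular. -/
theorem not_three_dvd_pair (h : Inverted P) {g k : G} (hg : ¬ 3 ∣ orderOf g)
    (hk : ¬ 3 ∣ orderOf k) (hgk : 3 ∣ orderOf (g * k)) :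
    ¬ 3 ∣ Nat.card (centralizer ({g} : Set G) ⊓ centralizer ({k} : Set G) : Subgroup G) := by
  intro h3
  obtain ⟨r, hr⟩ := exists_prime_orderOf_dvd_card' 3 h3
  have hr' : orderOf (r : G) = 3 := (orderOf_coe r).trans hr
  obtain ⟨T, hT⟩ := (IsPGroup.of_card (n := 1) (by rw [Nat.card_zpowers, hr', pow_one]) :
    IsPGroup 3 (zpowers (r : G))).exists_le_sylow
  obtain ⟨c, hcT⟩ := MulAction.exists_smul_eq G T P
  have hrP : c * (r : G) * c⁻¹ ∈ (P : Subgroup G) := by
    rw [← hcT]; exact ⟨r, hT (mem_zpowers _), rfl⟩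
  have hr1 : c * (r : G) * c⁻¹ ≠ 1 := fun h1 => by
    rw [conj_eq_one_iff.mp h1, orderOf_one] at hr'
    norm_num at hr'
  obtain ⟨K, -, hK3, hreg, -⟩ := exists_complement h hrP hr1
  have hmem : ∀ x : G, x * r = r * x →
      c * x * c⁻¹ ∈ centralizer ({c * (r : G) * c⁻¹} : Set G) := fun x hx => by
    rw [mem_centralizer_singleton_iff, conj_mul, conj_mul, hx]
  have hord : ∀ x : G, orderOf (c * x * c⁻¹) = orderOf x := fun x =>
    (MulEquiv.orderOf_eq (MulAut.conj c) x)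
  have hg' := hmem g (mem_centralizer_singleton_iff.mp r.2.1).symm
  have hk' := hmem k (mem_centralizer_singleton_iff.mp r.2.2).symm
  have hgK : (⟨_, hg'⟩ : centralizer ({c * (r : G) * c⁻¹} : Set G)) ∈ K :=
    hreg _ (by rwa [Subgroup.orderOf_mk, hord])
  have hkK : (⟨_, hk'⟩ : centralizer ({c * (r : G) * c⁻¹} : Set G)) ∈ K :=
    hreg _ (by rwa [Subgroup.orderOf_mk, hord])
  refine not_dvd_of_regular hK3 (mul_mem hgK hkK) ?_
  rw [← orderOf_coe]
  show 3 ∣ orderOf (c * g * c⁻¹ * (c * k * c⁻¹))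
  rwa [conj_mul, hord]

/-- Pairs of conjugates with product in a section: one orbit gives a lower bound. -/
theorem card_le_pairs (h : Inverted P) {y : G} (hy : y ∈ (P : Subgroup G)) (hy1 : y ≠ 1) {t : G}
    (ht : ¬ 3 ∣ orderOf t) {m : ℕ} (hm : Nat.card (centralizer ({y} : Set G)) = 9 * 2 ^ m)
    (hne : Nonempty {p : G × G // IsConj t p.1 ∧ IsConj t p.2 ∧
      ∃ z, IsPPart 3 (p.1 * p.2) z ∧ IsConj y z}) :
    Nat.card G ≤ 2 ^ m * Nat.card {p : G × G // IsConj t p.1 ∧ IsConj t p.2 ∧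
      ∃ z, IsPPart 3 (p.1 * p.2) z ∧ IsConj y z} := by
  obtain ⟨⟨⟨g, k⟩, hg, hk, z, hz, hyz⟩⟩ := hne
  set H : Subgroup G := centralizer ({g} : Set G) ⊓ centralizer ({k} : Set G)
  have hord : ∀ x, IsConj t x → ¬ 3 ∣ orderOf x := fun x hx => by
    obtain ⟨c, rfl⟩ := isConj_iff.mp hx
    rwa [show orderOf (c * t * c⁻¹) = orderOf t from MulEquiv.orderOf_eq (MulAut.conj c) t]
  have hgk : 3 ∣ orderOf (g * k) := by
    obtain ⟨z', c, hz', -, hz1⟩ := exists_part P (g * k)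
    by_contra h3
    obtain rfl := isPPart_unique Nat.prime_three hz hz'
    rw [hz1.mpr h3, isConj_one_left] at hyz
    exact hy1 hyz
  have h3 := not_three_dvd_pair h (hord g hg) (hord k hk) hgk
  have hHz : H ≤ centralizer ({z} : Set G) := by
    intro x hx
    have e1 : x * g * x⁻¹ = g := mul_inv_eq_iff_eq_mul.mpr (mem_centralizer_singleton_iff.mp hx.1)
    have e2 : x * k * x⁻¹ = k := mul_inv_eq_iff_eq_mul.mpr (mem_centralizer_singleton_iff.mp hx.2)
    have e3 := isPPart_conj hz x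
    simp only at e3
    rw [← conj_mul, e1, e2] at e3
    exact mem_centralizer_singleton_iff.mpr
      (mul_inv_eq_iff_eq_mul.mp (isPPart_unique Nat.prime_three e3 hz))
  have hcz : Nat.card (centralizer ({z} : Set G)) = 9 * 2 ^ m := by
    obtain ⟨c, rfl⟩ := isConj_iff.mp hyz
    rw [← hm, Nat.card_congr ((centralizer ({y} : Set G)).equivMapOfInjective
      (MulAut.conj c).toMonoidHom (MulAut.conj c).injective).toEquiv]
    suffices he : centralizer ({c * y * c⁻¹} : Set G) =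
        (centralizer ({y} : Set G)).map (MulAut.conj c).toMonoidHom by rw [he]
    refine le_antisymm ?_ ?_
    · intro x hx
      refine ⟨c⁻¹ * x * c, mem_centralizer_singleton_iff.mpr ?_, by simp [mul_assoc]⟩
      have := mem_centralizer_singleton_iff.mp hx
      calc c⁻¹ * x * c * y = c⁻¹ * (x * (c * y * c⁻¹)) * c := by group
        _ = c⁻¹ * (c * y * c⁻¹ * x) * c := by rw [this]
        _ = y * (c⁻¹ * x * c) := by group
    · rintro _ ⟨x, hx, rfl⟩
      refine mem_centralizer_singleton_iff.mpr ?_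
      show c * x * c⁻¹ * (c * y * c⁻¹) = c * y * c⁻¹ * (c * x * c⁻¹)
      rw [conj_mul, conj_mul, mem_centralizer_singleton_iff.mp hx]
  have hd : Nat.card H ∣ 2 ^ m := dvd_of_not_three rfl (hcz ▸ card_dvd_of_le hHz) h3
  have hinj : H.index ≤ Nat.card {p : G × G // IsConj t p.1 ∧ IsConj t p.2 ∧
      ∃ z, IsPPart 3 (p.1 * p.2) z ∧ IsConj y z} := by
    let φ : G → {p : G × G // IsConj t p.1 ∧ IsConj t p.2 ∧
        ∃ z, IsPPart 3 (p.1 * p.2) z ∧ IsConj y z} := fun x =>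
      ⟨(x * g * x⁻¹, x * k * x⁻¹), hg.trans (isConj_iff.mpr ⟨x, rfl⟩),
        hk.trans (isConj_iff.mpr ⟨x, rfl⟩), x * z * x⁻¹, by
          show IsPPart 3 (x * g * x⁻¹ * (x * k * x⁻¹)) _
          rw [conj_mul]; exact isPPart_conj hz x,
        hyz.trans (isConj_iff.mpr ⟨x, rfl⟩)⟩
    refine Nat.card_le_card_of_injective (α := G ⧸ H) (fun x => φ x.out) ?_
    intro a b hab
    have h1 := congrArg (fun p => p.1.1) hab
    have h2 := congrArg (fun p => p.1.2) hab
    simp only [φ] at h1 h2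
    rw [← a.out_eq, ← b.out_eq]
    refine QuotientGroup.eq.mpr ⟨?_, ?_⟩
    · refine mem_centralizer_singleton_iff.mpr ?_
      calc (a.out)⁻¹ * b.out * g = (a.out)⁻¹ * (b.out * g * (b.out)⁻¹) * b.out := by group
        _ = (a.out)⁻¹ * (a.out * g * (a.out)⁻¹) * b.out := by rw [h1]
        _ = g * ((a.out)⁻¹ * b.out) := by group
    · refine mem_centralizer_singleton_iff.mpr ?_
      calc (a.out)⁻¹ * b.out * k = (a.out)⁻¹ * (b.out * k * (b.out)⁻¹) * b.out := by group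
        _ = (a.out)⁻¹ * (a.out * k * (a.out)⁻¹) * b.out := by rw [h2]
        _ = k * ((a.out)⁻¹ * b.out) := by group
  rw [← H.card_mul_index]
  exact Nat.mul_le_mul (Nat.le_of_dvd (by positivity) hd) hinj

end Cfsg.Agent.NinePQ.Inv
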